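import Cfsg.Agent.Lib.MonsterLocal52.Decomp

/-!
The action on the objects for the centraliser of the image of the permutation modulo the sign.

Owner: helper52.
-/

set_option autoImplicit false

namespace Cfsg.Agent.Lib.MonsterLocal52.LocData.Good

open Cfsg Cfsg.Agent.Lib.Leech Cfsg.Agent.Lib.Golay
open Cfsg.Agent.Lib.LeechMod2

variable {D : LocData} (H : D.Good)

/-- The image of the permutation. -/
noncomputable def β : Spor.Co1 := Frame.bar (LatData.π H.lat)

/-- Its centraliser. -/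
noncomputable def CB : Subgroup Spor.Co1 := Subgroup.centralizer {H.β}

theorem π_ne_one : LatData.π H.lat ≠ 1 := fun h =>
  H.π_pow.2.1 (permHom_injective (h.trans (map_one _).symm))

include H in
theorem negOne_pow : negOne ^ D.p = negOne := by
  obtain ⟨m, hm⟩ := H.prime.eq_two_or_odd'.resolve_left H.odd
  have h2 : negOne ^ 2 = 1 := by
    rw [pow_two]; exact Frame.mul_self_of_diag (Frame.center_le_diag negOne_mem_center)
  rw [hm, pow_succ, pow_mul, h2, one_pow, one_mul]

theorem β_ne_one : H.β ≠ 1 := fun h => by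
  refine H.π_ne_one ?_
  rcases center_co0_eq (Frame.bar_eq_one.mp h) with e | e
  · exact e
  · exfalso
    have h7 := H.π_pow.1
    rw [e, H.negOne_pow] at h7
    exact negOne_ne_one h7

theorem β_pow : H.β ^ D.p = 1 := by rw [β, ← map_pow, H.π_pow.1, map_one]

theorem orderOf_β : orderOf H.β = D.p :=
  haveI : Fact D.p.Prime := ⟨H.prime⟩
  orderOf_eq_prime H.β_pow H.β_ne_one

/-- An element commuting with the image commutes with the permutation. -/
theorem mem_CC_of_bar {g : Co0} (h : Frame.bar g ∈ H.CB) : g ∈ H.CC := by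
  rw [CB, Subgroup.mem_centralizer_singleton_iff] at h
  obtain ⟨p₀, hp₀⟩ : ∃ x, x = LatData.π H.lat := ⟨_, rfl⟩
  have hb : Frame.bar p₀ = H.β := by rw [hp₀]; rfl
  have hc : g * p₀ * g⁻¹ * p₀⁻¹ ∈ Subgroup.center Co0 := by
    rw [← Frame.bar_eq_one, map_mul, map_mul, map_mul, map_inv, map_inv, hb, h]
    group
  refine (LatData.mem_CC H.lat).mpr ?_
  rw [← hp₀]
  rcases center_co0_eq hc with e | e
  · rw [mul_inv_eq_one, mul_inv_eq_iff_eq_mul] at e
    exact e
  · exfalso
    have e1 : g * p₀ * g⁻¹ = negOne * p₀ := by rw [← e]; group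
    have e2 := congrArg (fun y : Co0 => y ^ D.p) e1
    have hp : p₀ ^ D.p = 1 := by rw [hp₀]; exact H.π_pow.1
    simp only [conj_pow, hp, mul_one, mul_inv_cancel] at e2
    rw [Commute.mul_pow (show Commute negOne p₀ from
      (Subgroup.mem_center_iff.mp negOne_mem_center p₀).symm), hp, mul_one, H.negOne_pow] at e2
    exact negOne_ne_one e2.symm

/-- Reduction on the centraliser. -/
noncomputable def qCC : H.CC →* H.CB :=
  (Frame.bar.comp H.CC.subtype).codRestrict H.CB fun g =>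
    Subgroup.mem_centralizer_singleton_iff.mpr (by
      show Frame.bar (g : Co0) * Frame.bar (LatData.π H.lat) =
        Frame.bar (LatData.π H.lat) * Frame.bar (g : Co0)
      rw [← map_mul, ← map_mul, (LatData.mem_CC H.lat).mp g.2])

theorem qCC_surjective : Function.Surjective H.qCC := by
  rintro ⟨x, hx⟩
  obtain ⟨g, rfl⟩ := Frame.bar_surjective x
  exact ⟨⟨g, H.mem_CC_of_bar hx⟩, rfl⟩

theorem ker_qCC_le : H.qCC.ker ≤ H.phi.ker := by
  intro g hg
  have h : Frame.bar (g : Co0) = 1 := congrArg Subtype.val (MonoidHom.mem_ker.mp hg)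
  rw [MonoidHom.mem_ker]
  rcases center_co0_eq (Frame.bar_eq_one.mp h) with e | e
  · rw [show g = 1 from Subtype.ext e, map_one]
  · rw [show g = ⟨negOne, LatData.negOne_mem H.lat⟩ from Subtype.ext e]
    exact H.phi_negOne

/-- The action modulo the sign. -/
noncomputable def phiBar : H.CB →* Equiv.Perm (Fin D.n) :=
  H.qCC.liftOfSurjective H.qCC_surjective ⟨H.phi, H.ker_qCC_le⟩

theorem phiBar_qCC (g : H.CC) : H.phiBar (H.qCC g) = H.phi g :=
  MonoidHom.liftOfRightInverse_comp_apply _ _ _ _ g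

theorem range_phiBar : H.phiBar.range = H.phi.range := by
  ext f
  constructor
  · rintro ⟨c, rfl⟩
    obtain ⟨g, rfl⟩ := H.qCC_surjective c
    exact ⟨g, (H.phiBar_qCC g).symm⟩
  · rintro ⟨g, rfl⟩
    exact ⟨H.qCC g, H.phiBar_qCC g⟩

theorem phiBar_eq_one_iff {c : H.CB} : H.phiBar c = 1 ↔ ∃ j : ℕ, (c : Spor.Co1) = H.β ^ j := by
  obtain ⟨g, rfl⟩ := H.qCC_surjective c
  rw [phiBar_qCC]
  constructor
  · intro h
    obtain ⟨j, hj⟩ := H.phi_eq_one h
    refine ⟨j, ?_⟩
    show Frame.bar (g : Co0) = _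
    rcases hj with e | e
    · rw [e, map_pow]; rfl
    · rw [e, map_mul, Frame.bar_eq_one.mpr negOne_mem_center, one_mul, map_pow]; rfl
  · rintro ⟨j, hj⟩
    obtain ⟨π₁, hπ₁⟩ : ∃ x : H.CC, x = ⟨LatData.π H.lat, LatData.π_mem H.lat⟩ := ⟨_, rfl⟩
    have hc : ((π₁ ^ j)⁻¹ * g : H.CC).1 ∈ Subgroup.center Co0 := by
      rw [← Frame.bar_eq_one, Subgroup.coe_mul, Subgroup.coe_inv, SubgroupClass.coe_pow, map_mul,
        map_inv, map_pow, hπ₁,
        show Frame.bar (g : Co0) = H.β ^ j from hj]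
      exact inv_mul_cancel _
    have h1 : H.phi π₁ = 1 := hπ₁ ▸ H.phi_π
    rcases center_co0_eq hc with e | e
    · rw [show g = π₁ ^ j from (inv_mul_eq_one.mp (Subtype.ext e)).symm, map_pow, h1, one_pow]
    · have e' : (π₁ ^ j)⁻¹ * g = ⟨negOne, LatData.negOne_mem H.lat⟩ := Subtype.ext e
      rw [inv_mul_eq_iff_eq_mul] at e'
      rw [e', map_mul, map_pow, h1, one_pow, one_mul]
      exact H.phi_negOne

end Cfsg.Agent.Lib.MonsterLocal52.LocData.Good
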