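import Cfsg.Agent.Lib.MonsterLocal52.Objects
import Cfsg.Agent.Lib.LeechMod2.Frame

/-!
The centraliser of the coded permutation is generated by the coded generators, so it permutes the
objects; the kernel of that action is the group of the permutation and the sign.

Owner: helper52.
-/

set_option autoImplicit false
set_option maxRecDepth 20000

namespace Cfsg.Agent.Lib.MonsterLocal52

open Cfsg Cfsg.Agent.Lib.Leech Cfsg.Agent.Lib.Golay Cfsg.Agent.Lib.Co3Model
open Cfsg.Agent.Lib.Computation (getW mulP)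
open Cfsg.Agent.Lib.LeechMod2

theorem sign_zero : (Op.sign 0).elt = (1 : Co0) := by
  have hc : inCode 0 = true := by decide +kernel
  refine co0_ext fun q => ?_
  simp only [Op.elt, dif_pos hc, one_smul]
  apply Subtype.ext
  funext i
  show vec _ i = _
  rw [flip_smul, if_neg (by simp)]

theorem sign_full : (Op.sign 16777215).elt = negOne := by
  have h : inCode 16777215 = true := by decide +kernel
  rw [← wordElt_single]
  refine co0_ext fun q => lv_injective ?_
  rw [lv_word (w := [.sign 16777215]) (by simp [Op.ok, h]), lv_eightE, negOne_smul]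
  refine (lv_eq_map (f := fun i => -ent (axL (idx q)) i) fun i hi => ?_).trans ?_ |>.symm
  · rw [← lv_eightE, ent_lv _ hi]
    simp [vec]
  · simp only [appWord, Op.app]
    refine List.map_congr_left fun i hi => ?_
    rw [List.mem_range] at hi
    have : ∀ j < 24, (16777215 : ℕ).testBit j = true := by decide +kernel
    rw [this i hi, if_pos rfl]

namespace LocData.Good

variable {D : LocData} (H : D.Good)

include H in
theorem not_norm64 {v : leechLattice} (hv : sqNorm (vec v) = 64) {P : Fin 8 → ℤ}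
    (hn : LatData.sqL (D.valL P) < 64) : ¬ Eqv v (LatData.val H.lat P) := by
  intro he
  rw [← LatData.lv_valL H.lat, ← LatData.sqNorm_eq] at hn
  rcases eq_or_neg_of_small he (by rw [hv]; omega) with e | e
  · rw [e] at hv; omega
  · rw [e] at hv
    simp only [vec, AddSubgroup.coe_neg, sqNorm_neg] at hv hn
    omega

include H in
/-- The classes with a vector of squared length 64 are nodes. -/
theorem node_of_norm {v : leechLattice} (hv : sqNorm (vec v) = 64) {R : Fin 8 → ℤ}
    (he : Eqv v (LatData.val H.lat R)) :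
    ∃ k < D.tree.length, LatData.red R = vecC (D.node k).code := by
  obtain ⟨c, hc, hcR⟩ := exists_code (LatData.red R)
  have h := H.cover_ok
  simp only [coverOK, List.all_eq_true, List.mem_range, Bool.or_eq_true, List.any_eq_true,
    Bool.and_eq_true, Nat.beq_eq, beq_iff_eq, decide_eq_true_eq] at h
  rcases h c hc with ⟨x, hx, rfl⟩ | ⟨e, -, ⟨-, hbit⟩, hn⟩
  · obtain ⟨k, hk, rfl⟩ := List.getElem_of_mem hx
    exact ⟨k, hk, by rw [hcR, node, List.getD_eq_getElem?_getD, List.getElem?_eq_getElem hk]; rfl⟩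
  · exfalso
    refine H.not_norm64 hv hn (he.trans ((LatData.eqv_val_iff H.lat).mpr ?_))
    rw [hcR]
    funext j
    have hb := hbit j (List.mem_finRange j)
    simp only [LatData.red, vecC]
    rw [← hb]
    generalize parC e.2 j = t
    rcases Int.emod_two_eq_zero_or_one t with ht | ht
    · rw [decide_eq_false (by omega), cond_false]
      exact ((ZMod.intCast_zmod_eq_zero_iff_dvd t 2).mpr (Int.dvd_of_emod_eq_zero ht)).symm
    · rw [decide_eq_true ht, cond_true, show t = 2 * (t / 2) + 1 by omega]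
      push_cast
      rw [show ((2 : ZMod 2)) = 0 from rfl, zero_mul, zero_add]

include H in
/-- The basic class contains an axis. -/
theorem axis_root :
    Eqv (eightE (pt D.k0)) (LatData.val H.lat (lift (vecC D.s0))) := by
  have h := H.root_ok
  simp only [rootOK, Bool.and_eq_true, List.all_eq_true, List.mem_range, Nat.blt_eq,
    decide_eq_true_eq] at h
  obtain ⟨⟨⟨⟨hk, hpar⟩, hin⟩, -⟩, -⟩ := h
  refine ⟨⟨_, mem_of_inLeechL hin⟩, Subtype.ext (funext fun q => ?_)⟩
  have e1 : vec (eightE (pt D.k0)) q = ent (axL D.k0) (idx q) := by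
    rw [← ent_lv_idx, lv_eightE, idx_pt hk]
  have e2 : vec (LatData.val H.lat (lift (vecC D.s0))) q =
      ent (D.valL (lift (vecC D.s0))) (idx q) := by
    rw [← ent_lv_idx, LatData.lv_valL]
  obtain ⟨d, hd⟩ : ∃ d, d = ent (axL D.k0) (idx q) - ent (D.valL (lift (vecC D.s0))) (idx q) :=
    ⟨_, rfl⟩
  have h2 : d % 2 = 0 := hd ▸ hpar _ (idx_lt q)
  have e3 : vecL ((List.range 24).map fun i =>
      (ent (axL D.k0) i - ent (D.valL (lift (vecC D.s0))) i) / 2) q = d / 2 := by
    rw [hd]
    simp [vecL, ent, List.getD_eq_getElem?_getD, idx_lt q]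
  show vec (eightE (pt D.k0)) q - vec (LatData.val H.lat (lift (vecC D.s0))) q = _ + _
  rw [e1, e2, ← hd]
  change d = vecL _ q + vecL _ q
  rw [e3]
  omega

include H in
theorem flips_mem {e : ℕ × Img} (he : e ∈ D.flips) : ([Op.sign e.1], e.2) ∈ D.allG := by
  simp only [allG, List.mem_append, List.mem_map]
  exact Or.inl (Or.inl (Or.inr ⟨e, he, rfl⟩))

include H in
theorem centA_mem {e : (ℕ × ℕ) × Img} (he : e ∈ D.centA) :
    ([Op.perm e.1.1 e.1.2], e.2) ∈ D.allG := by
  simp only [allG, List.mem_append, List.mem_map]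
  exact Or.inl (Or.inr ⟨e, he, rfl⟩)

include H in
theorem centB_mem {e : (ℕ × ℕ) × Img} (he : e ∈ D.centB) :
    ([Op.perm e.1.1 e.1.2], e.2) ∈ D.allG := by
  simp only [allG, List.mem_append, List.mem_map]
  exact Or.inr ⟨e, he, rfl⟩

include H in
theorem perm_elt {c ci : ℕ} {i : Img} (he : ([Op.perm c ci], i) ∈ D.allG) :
    ∃ μ : M24, (μ : Equiv.Perm GolayPt) = gperm c ∧ (Op.perm c ci).elt = permHom μ ∧
      okCode c = true := by
  have h := (H.gen_spec he).2.2.2.2
  simp only [List.all_cons, List.all_nil, Bool.and_true] at h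
  have h' := h
  simp only [Op.ok, Bool.and_eq_true] at h'
  refine ⟨⟨gperm c, gperm_mem_M24 h'.1.1⟩, rfl, ?_, okCode_of_inM24 h'.1.1⟩
  simp only [Op.elt, dif_pos h]

include H in
/-- The sign part commuting with the permutation is a listed flip. -/
theorem exists_flip {d : Co0} (hd : d ∈ Frame.diag)
    (hc : d * LatData.π H.lat = LatData.π H.lat * d) :
    ∃ e ∈ D.flips, d = (Op.sign e.1).elt := by
  obtain ⟨c, hcc, rfl⟩ := Frame.mem_diag_iff.mp hd
  obtain ⟨k, hk, rfl⟩ := mem_supports_iff.mp hcc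
  have hinv : ∀ q : GolayPt, (q ∈ setOfMask (enc k)) ↔
      ((LatData.σ H.lat : Equiv.Perm GolayPt) q ∈ setOfMask (enc k)) := by
    intro q
    have h1 : Leech.flip (setOfMask (enc k)) hcc • (LatData.π H.lat • eightE q) =
        LatData.π H.lat • (Leech.flip (setOfMask (enc k)) hcc • eightE q) := by
      rw [← mul_smul, hc, mul_smul]
    have h2 := congrArg (fun v => vec v ((LatData.σ H.lat : Equiv.Perm GolayPt) q)) h1
    simp only [LatData.π] at h2
    rw [permHom_eightE, flip_smul, permHom_apply, Equiv.symm_apply_apply, flip_smul] at h2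
    simp only [eightE, vec, Pi.single_eq_same] at h2
    by_cases a1 : q ∈ setOfMask (enc k) <;>
      by_cases a2 : (LatData.σ H.lat : Equiv.Perm GolayPt) q ∈ setOfMask (enc k) <;>
      simp only [a1, a2, if_true, if_false] at h2 ⊢ <;> omega
  have hf := H.fix_ok
  simp only [fixOK, List.all_eq_true, List.mem_range, Bool.or_eq_true, Bool.not_eq_true',
    List.any_eq_true, Nat.beq_eq] at hf
  rcases hf k hk with h | ⟨e, he, hee⟩
  · exfalso
    have hall : ((List.range 24).all fun i =>
        (enc k).testBit (getW 5 D.r i) == (enc k).testBit i) = true := by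
      simp only [List.all_eq_true, List.mem_range, beq_iff_eq]
      intro i hi
      have h1 := hinv (pt i)
      rw [show (LatData.σ H.lat : Equiv.Perm GolayPt) = gperm D.r from rfl] at h1
      simp only [mem_setOfMask, idx_gperm (LatData.okCode_r H.lat), idx_pt hi] at h1
      exact Bool.eq_iff_iff.mpr h1.symm
    rw [hall] at h
    exact Bool.noConfusion h
  · refine ⟨e, he, ?_⟩
    rw [← hee]
    simp only [Op.elt, dif_pos (inCode_enc hk)]

include H in
/-- An element fixing the basic class is a product of three listed monomial elements. -/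
theorem exists_mono {h : Co0} (hh : h ∈ H.CC) (hfix : H.act h (vecC D.s0) = vecC D.s0) :
    ∃ e ∈ D.flips, ∃ a ∈ D.centA, ∃ b ∈ D.centB,
      h = wordElt [Op.sign e.1] * (wordElt [Op.perm a.1.1 a.1.2] * wordElt [Op.perm b.1.1 b.1.2]) := by
  obtain ⟨R, hR, hR'⟩ := LatData.exists_smul_val H.lat hh (lift (vecC D.s0))
  rw [red_lift, show LatData.actV H.lat h (vecC D.s0) = _ from hfix] at hR'
  have hv : Eqv (LatData.val H.lat R) (LatData.val H.lat (lift (vecC D.s0))) :=
    (LatData.eqv_val_iff H.lat).mpr (by rw [hR', red_lift])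
  have hax : Eqv (h • eightE (pt D.k0)) (eightE (pt D.k0)) :=
    (((H.axis_root.smul h).trans (hR ▸ Eqv.rfl' _)).trans hv).trans H.axis_root.symm
  obtain ⟨t, ht⟩ := hax.symm
  obtain ⟨j, hj⟩ := eight_congr (i := pt D.k0) (w := h • eightE (pt D.k0)) (z := t)
    (by rw [norm_smul', sqNorm_eightE]) (by rw [two_zsmul, ← ht])
  obtain ⟨d, hd, τ, rfl⟩ := Frame.exists_split (axis_of_one (i := pt D.k0) hj)
  have hc : d * permHom τ * LatData.π H.lat = LatData.π H.lat * (d * permHom τ) :=
    (LatData.mem_CC H.lat).mp hh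
  obtain ⟨π₀, hπ₀⟩ : ∃ x, x = LatData.π H.lat := ⟨_, rfl⟩
  obtain ⟨s, hs⟩ : ∃ x, x = LatData.σ H.lat := ⟨_, rfl⟩
  have hps : π₀ = permHom s := by rw [hπ₀, hs]; rfl
  rw [← hπ₀] at hc
  have e0 : permHom (τ * s * τ⁻¹ * s⁻¹) = d⁻¹ * (π₀ * d * π₀⁻¹) := by
    rw [map_mul, map_mul, map_mul, map_inv, map_inv, ← hps]
    calc permHom τ * π₀ * (permHom τ)⁻¹ * π₀⁻¹
        = d⁻¹ * (d * permHom τ * π₀) * (permHom τ)⁻¹ * π₀⁻¹ := by group
      _ = d⁻¹ * (π₀ * (d * permHom τ)) * (permHom τ)⁻¹ * π₀⁻¹ := by rw [hc]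
      _ = _ := by group
  have hmem : permHom (τ * s * τ⁻¹ * s⁻¹) ∈ Frame.diag := by
    rw [e0]
    exact mul_mem (inv_mem hd) (Frame.cross_conj_diag (hps ▸ Frame.permHom_mem_cross s) hd)
  have h1 := Frame.eq_one_of_permHom_mem_diag hmem
  have hτ : τ * s = s * τ := by
    rw [mul_inv_eq_one, mul_inv_eq_iff_eq_mul] at h1
    exact h1
  have hdπ : d * π₀ = π₀ * d := by
    rw [h1, map_one] at e0
    have e1 : π₀ * d * π₀⁻¹ = d := by
      calc π₀ * d * π₀⁻¹ = d * (d⁻¹ * (π₀ * d * π₀⁻¹)) := by group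
        _ = d := by rw [← e0, mul_one]
    exact (mul_inv_eq_iff_eq_mul.mp e1).symm
  obtain ⟨e, he, hde⟩ := H.exists_flip hd (hπ₀ ▸ hdπ)
  obtain ⟨a, ha, b, hb, hab⟩ := H.cent τ (hs ▸ hτ)
  obtain ⟨μ, hμ, hμe, -⟩ := H.perm_elt (H.centA_mem ha)
  obtain ⟨ν, hν, hνe, -⟩ := H.perm_elt (H.centB_mem hb)
  refine ⟨e, he, a, ha, b, hb, ?_⟩
  simp only [wordElt_single, hde, hμe, hνe, ← map_mul]
  congr 2
  exact Subtype.ext (by rw [← hab, ← hμ, ← hν]; rfl)

include H in
/-- Every element is a product of a tree element and three monomial ones. -/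
theorem decomp {g : Co0} (hg : g ∈ H.CC) :
    ∃ k < D.tree.length, ∃ t ∈ Submonoid.closure H.GS,
      H.act t (vecC D.s0) = vecC (D.node k).code ∧ H.Moves t (D.fn (D.node k).perm) ∧
      (k = 0 → t = 1) ∧ H.act g (vecC D.s0) = vecC (D.node k).code ∧
      ∃ e ∈ D.flips, ∃ a ∈ D.centA, ∃ b ∈ D.centB,
        g = t * (wordElt [Op.sign e.1] *
          (wordElt [Op.perm a.1.1 a.1.2] * wordElt [Op.perm b.1.1 b.1.2])) := by
  obtain ⟨R, hR, hR'⟩ := LatData.exists_smul_val H.lat hg (lift (vecC D.s0))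
  rw [red_lift] at hR'
  obtain ⟨k, hk, hkR⟩ := H.node_of_norm (v := g • eightE (pt D.k0))
    (by rw [norm_smul', sqNorm_eightE]) (R := R) (hR ▸ H.axis_root.smul g)
  have hgx : H.act g (vecC D.s0) = vecC (D.node k).code := hR'.symm.trans hkR
  obtain ⟨t, ht1, ht2, ht3, ht4⟩ := H.tree_spec k hk
  have htC : t ∈ H.CC := H.closure_le ht1
  have hfix : H.act (t⁻¹ * g) (vecC D.s0) = vecC D.s0 := by
    apply LatData.actV_injective H.lat htC
    show LatData.actV H.lat t (LatData.actV H.lat (t⁻¹ * g) _) = H.act t _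
    rw [← LatData.actV_mul H.lat htC (mul_mem (inv_mem htC) hg), mul_inv_cancel_left, ht2]
    exact hgx
  obtain ⟨e, he, a, ha, b, hb, heq⟩ := H.exists_mono (mul_mem (inv_mem htC) hg) hfix
  exact ⟨k, hk, t, ht1, ht2, ht3, ht4, hgx, e, he, a, ha, b, hb, by
    rw [← heq, mul_inv_cancel_left]⟩

theorem closure_eq : Submonoid.closure H.GS = H.CC.toSubmonoid := by
  refine le_antisymm H.closure_le fun g hg => ?_
  obtain ⟨k, -, t, ht, -, -, -, -, e, he, a, ha, b, hb, rfl⟩ := H.decomp hg
  exact mul_mem ht (mul_mem (Submonoid.subset_closure ⟨_, H.flips_mem he, rfl⟩)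
    (mul_mem (Submonoid.subset_closure ⟨_, H.centA_mem ha, rfl⟩)
      (Submonoid.subset_closure ⟨_, H.centB_mem hb, rfl⟩)))

include H in
theorem exists_moves {g : Co0} (hg : g ∈ H.CC) :
    ∃ f : Equiv.Perm (Fin D.n), H.Moves g f := by
  have hg' : g ∈ Submonoid.closure H.GS := H.closure_eq ▸ hg
  clear hg
  induction hg' using Submonoid.closure_induction with
  | mem x hx => obtain ⟨e, he, rfl⟩ := hx; exact ⟨_, (H.gen_spec he).2.2.1⟩
  | one => exact ⟨1, H.moves_one⟩
  | mul x y hx hy ihx ihy =>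
    obtain ⟨f, hf⟩ := ihx
    obtain ⟨f', hf'⟩ := ihy
    refine ⟨f * f', ?_⟩
    rw [Equiv.Perm.coe_mul]
    exact H.moves_mul (H.closure_le hx) (H.closure_le hy) hf hf'

/-- The permutation of the objects. -/
noncomputable def movesPerm (g : H.CC) : Equiv.Perm (Fin D.n) := Classical.choose (H.exists_moves g.2)

theorem movesPerm_spec (g : H.CC) : H.Moves g.1 (H.movesPerm g) :=
  Classical.choose_spec (H.exists_moves g.2)

theorem movesPerm_eq (g : H.CC) {f : Equiv.Perm (Fin D.n)} (hf : H.Moves g.1 f) :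
    H.movesPerm g = f :=
  Equiv.coe_fn_injective (H.moves_unique g.2 (H.movesPerm_spec g) hf)

/-- The action on the objects. -/
noncomputable def phi : H.CC →* Equiv.Perm (Fin D.n) where
  toFun := H.movesPerm
  map_one' := H.movesPerm_eq 1 (by exact H.moves_one)
  map_mul' g k := H.movesPerm_eq (g * k) (by
    rw [Equiv.Perm.coe_mul]
    exact H.moves_mul g.2 k.2 (H.movesPerm_spec g) (H.movesPerm_spec k))

/-- The coded permutations. -/
def PS (_H : D.Good) : Set (Equiv.Perm (Fin D.n)) := {f | ∃ e ∈ D.allG, f = D.permE e.2}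

theorem range_phi : H.phi.range.toSubmonoid = Submonoid.closure H.PS := by
  apply le_antisymm
  · rintro _ ⟨⟨g, hg⟩, rfl⟩
    have hg' : g ∈ Submonoid.closure H.GS := H.closure_eq ▸ hg
    induction hg' using Submonoid.closure_induction with
    | mem x hx =>
      obtain ⟨e, he, rfl⟩ := hx
      exact Submonoid.subset_closure ⟨e, he, H.movesPerm_eq ⟨_, hg⟩ (H.gen_spec he).2.2.1⟩
    | one =>
      show H.movesPerm ⟨1, hg⟩ ∈ _
      rw [show H.movesPerm ⟨1, hg⟩ = 1 from H.movesPerm_eq ⟨1, hg⟩ H.moves_one]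
      exact one_mem _
    | mul x y hx hy ihx ihy =>
      show H.phi ⟨x * y, hg⟩ ∈ _
      rw [show (⟨x * y, hg⟩ : H.CC) = ⟨x, H.closure_le hx⟩ * ⟨y, H.closure_le hy⟩ from rfl, map_mul]
      exact mul_mem (ihx _) (ihy _)
  · rw [Submonoid.closure_le]
    rintro _ ⟨e, he, rfl⟩
    exact ⟨⟨_, (H.gen_spec he).1⟩, H.movesPerm_eq _ (H.gen_spec he).2.2.1⟩

theorem π_pow : LatData.π H.lat ^ D.p = 1 ∧ LatData.σ H.lat ≠ 1 ∧
    ∀ j q, idx (((LatData.σ H.lat : Equiv.Perm GolayPt) ^ j) q) = D.itW j (idx q) := by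
  have key : ∀ j q, idx (((LatData.σ H.lat : Equiv.Perm GolayPt) ^ j) q) = D.itW j (idx q) := by
    intro j
    induction j with
    | zero => intro q; rfl
    | succ j ih =>
      intro q
      rw [pow_succ', Equiv.Perm.mul_apply]
      show idx (gperm D.r _) = _
      rw [idx_gperm (LatData.okCode_r H.lat), ih]
      rfl
  have h := H.root_ok
  simp only [rootOK, Bool.and_eq_true, List.all_eq_true, List.mem_range, Nat.beq_eq,
    List.any_eq_true, Bool.not_eq_true'] at h
  obtain ⟨⟨-, hp⟩, i, hi, hne⟩ := h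
  refine ⟨?_, fun e => ?_, key⟩
  · rw [LatData.π, ← map_pow]
    refine (congrArg permHom (Subtype.ext (Equiv.ext fun q => idx_injective ?_))).trans (map_one _)
    rw [SubgroupClass.coe_pow, key, hp _ (idx_lt q)]
    rfl
  · have e1 := key 1 (pt i)
    rw [e, idx_pt hi] at e1
    simp only [OneMemClass.coe_one, pow_one, Equiv.Perm.one_apply, idx_pt hi] at e1
    rw [← e1] at hne
    simp at hne

include H in
/-- The kernel of the action on the objects. -/
theorem phi_eq_one {g : H.CC} (hg : H.phi g = 1) :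
    ∃ j : ℕ, (g : Co0) = LatData.π H.lat ^ j ∨ (g : Co0) = negOne * LatData.π H.lat ^ j := by
  obtain ⟨k, hk, t, ht, -, htm, ht0, hgx, e, he, a, ha, b, hb, hge⟩ := H.decomp g.2
  have hid : H.Moves g.1 id := by
    have h := H.movesPerm_spec g
    rwa [show H.movesPerm g = 1 from hg] at h
  have hge' := hge
  obtain ⟨e1, -, e2, e3, -⟩ := H.gen_spec (H.flips_mem he)
  obtain ⟨a1, -, a2, a3, -⟩ := H.gen_spec (H.centA_mem ha)
  obtain ⟨b1, -, b2, b3, -⟩ := H.gen_spec (H.centB_mem hb)
  rw [e3] at e2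
  rw [a3] at a2
  rw [b3] at b2
  have htC : t ∈ H.CC := H.closure_le ht
  have hm := H.moves_mul htC (mul_mem e1 (mul_mem a1 b1)) htm
    (H.moves_mul e1 (mul_mem a1 b1) e2 (H.moves_mul a1 b1 a2 b2))
  rw [← hge] at hm
  have hcomp := H.moves_unique g.2 hid hm
  have hker := H.ker_ok
  simp only [kerOK, List.all_eq_true, List.mem_range, Bool.or_eq_true, Bool.not_eq_true'] at hker
  have htree := H.tree_ok
  simp only [treeOK, Bool.and_eq_true, List.all_eq_true, List.mem_range, Nat.blt_eq] at htree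
  rcases hker k hk with hout | hcases
  · exfalso
    have hall : ((List.finRange D.n).all fun i =>
        !(D.obj i.val).any (Nat.beq D.s0) || (D.obj i.val).any (Nat.beq (D.node k).code)) = true := by
      simp only [List.all_eq_true, Bool.or_eq_true, Bool.not_eq_true', List.any_eq_true,
        Nat.beq_eq]
      intro i _
      by_cases hs : D.s0 ∈ D.obj i.val
      · right
        obtain ⟨c, hc, hce⟩ := hid i _ hs
        rw [hgx] at hce
        exact ⟨c, hc, vecC_injOn (htree.2 k hk).1 ((H.obj_spec i).2.1 c hc) hce⟩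
      · left
        rw [List.any_eq_false]
        intro c hc hce
        exact hs (Nat.eq_of_beq_eq_true hce ▸ hc)
    rw [hall] at hout
    exact Bool.noConfusion hout
  have hcase := hcases e he a ha b hb
  simp only [kerCase, Bool.or_eq_true, Bool.not_eq_true', Bool.and_eq_true, Nat.beq_eq,
    List.any_eq_true, List.mem_range, List.all_eq_true] at hcase
  rcases hcase with hne | ⟨⟨hk0, hsign⟩, j, -, hj⟩
  · exfalso
    rw [List.all_eq_false] at hne
    obtain ⟨i, -, hi⟩ := hne
    refine hi ((Nat.beq_eq ..) ▸ ?_)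
    exact congrArg Fin.val (congrFun hcomp i).symm
  · rw [ht0 hk0, one_mul] at hge'
    obtain ⟨μ, hμ, hμe, oa⟩ := H.perm_elt (H.centA_mem ha)
    obtain ⟨ν, hν, hνe, ob⟩ := H.perm_elt (H.centB_mem hb)
    have hpow : permHom (μ * ν) = LatData.π H.lat ^ j := by
      rw [LatData.π, ← map_pow]
      refine congrArg permHom (Subtype.ext (Equiv.ext fun q => idx_injective ?_))
      rw [SubgroupClass.coe_pow, H.π_pow.2.2, ← hj _ (idx_lt q), Subgroup.coe_mul,
        hμ, hν, ← gperm_mul oa ob, idx_gperm (okCode_mulP oa ob)]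
    refine ⟨j, ?_⟩
    rw [hge']
    simp only [wordElt_single, hμe, hνe, ← map_mul, hpow]
    rcases hsign with h0 | h0 <;> rw [h0]
    · exact Or.inl (by rw [sign_zero, one_mul])
    · exact Or.inr (by rw [sign_full])

theorem phi_π : H.phi ⟨LatData.π H.lat, LatData.π_mem H.lat⟩ = 1 :=
  H.movesPerm_eq _ fun _ c hc => ⟨c, hc, LatData.actV_π H.lat _⟩

theorem phi_negOne : H.phi ⟨negOne, LatData.negOne_mem H.lat⟩ = 1 :=
  H.movesPerm_eq _ fun _ c hc => ⟨c, hc, LatData.actV_negOne H.lat _⟩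

end LocData.Good

end Cfsg.Agent.Lib.MonsterLocal52
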