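import Cfsg.Agent.Lib.MonsterLocal52.Main
import Cfsg.Agent.Lib.LeechMod2.MonsterCross

/-!
Monster type: the centraliser of two commuting conjugates over the monomial group, and retwisting
of the identification so that an element of prime order lies over a coded permutation.

Owner: helper52.
-/

set_option autoImplicit false
set_option maxRecDepth 20000

namespace Cfsg.Agent.Lib.MonsterLocal52

open Cfsg Cfsg.Agent.Lib.Leech Cfsg.Agent.Lib.Golay
open Cfsg.Agent.Lib.LeechMod2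

local notation "Cen[" z "]" => Subgroup.centralizer ({z} : Set _)

variable {G : Type*} [Group G] [Finite G] {z : G} {Q : Subgroup (Subgroup.centralizer ({z} : Set G))}
  [Q.Normal] {e : Cen[z] ⧸ Q ≃* Spor.Co1} {ψ : leechLattice → Q ⧸ Subgroup.center Q}

omit [Finite G] in
/-- Retwisting an identification by a lattice automorphism. -/
theorem retwist (hψ : IsLeechModTwoIso Q e ψ) (γ : Co0) :
    IsLeechModTwoIso Q (e.trans (MulAut.conj (Frame.bar γ)⁻¹)) fun w => ψ (γ • w) := by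
  refine ⟨fun a b => by simp only [smul_add', hψ.1], ?_, ?_, ?_⟩
  · intro y
    obtain ⟨w, hw⟩ := hψ.2.1 y
    exact ⟨γ⁻¹ • w, by simp [hw]⟩
  · intro w
    rw [hψ.2.2.1]
    constructor
    · rintro ⟨x, hx⟩
      refine ⟨γ⁻¹ • x, ?_⟩
      rw [← smul_add', ← hx, inv_smul_smul]
    · rintro ⟨x, rfl⟩
      exact ⟨γ • x, smul_add' γ x x⟩
  · intro h g hg w q hq
    have h1 : (QuotientGroup.mk (γ * g * γ⁻¹) : Spor.Co1) = e (QuotientGroup.mk h) := by
      show Frame.bar (γ * g * γ⁻¹) = _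
      have h2 : Frame.bar g = (Frame.bar γ)⁻¹ * e (QuotientGroup.mk h) * ((Frame.bar γ)⁻¹)⁻¹ := hg
      rw [map_mul, map_mul, map_inv, h2]
      group
    have h3 := hψ.2.2.2 h _ h1 (γ • w) q hq
    rw [← h3]
    show ψ (γ • g • w) = _
    rw [mul_smul, mul_smul, inv_smul_smul]

theorem card_crossBar : Nat.card (crossGroup.map Frame.bar) = 501397585920 := by
  have e1 : (Subgroup.center Co0).relIndex crossGroup = Nat.card (crossGroup.map Frame.bar) := by
    rw [← Subgroup.relIndex_ker, Frame.ker_bar]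
  have e2 := Subgroup.relIndex_mul_relIndex ⊥ (Subgroup.center Co0) crossGroup bot_le
    (Frame.center_le_diag.trans Frame.diag_le_cross)
  rw [Subgroup.relIndex_bot_left, Subgroup.relIndex_bot_left, card_crossGroup, Leech.card_center,
    e1] at e2
  omega

/-- An element of odd prime order in the monomial group is conjugate there to a permutation. -/
theorem conj_permBar {p : ℕ} (hp : p.Prime) (h2 : p ≠ 2) {x : Spor.Co1}
    (hx : x ∈ crossGroup.map Frame.bar) (hxo : orderOf x = p) :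
    ∃ σ : M24, orderOf σ = p ∧ ∃ c ∈ crossGroup.map Frame.bar,
      c * x * c⁻¹ = Frame.permBar σ := by
  have : Fact p.Prime := ⟨hp⟩
  obtain ⟨K, hK⟩ : ∃ K, K = crossGroup.map Frame.bar := ⟨_, rfl⟩
  rw [← hK] at hx ⊢
  let N := Frame.diagBar.subgroupOf K
  haveI : N.Normal := ⟨fun n hn g => by
    obtain ⟨d, hd, hde⟩ := hn
    obtain ⟨γ, hγ, hγe⟩ : (g : Spor.Co1) ∈ crossGroup.map Frame.bar := hK ▸ g.2
    refine ⟨γ * d * γ⁻¹, Frame.cross_conj_diag hγ hd, ?_⟩
    rw [map_mul, map_mul, map_inv, hγe]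
    show (g : Spor.Co1) * Frame.bar d * (g : Spor.Co1)⁻¹ = _
    rw [hde]
    rfl⟩
  haveI : Finite Spor.Co1 := Finite.of_surjective _ Frame.bar_surjective
  obtain ⟨γ, hγ, hγx⟩ : x ∈ crossGroup.map Frame.bar := hK ▸ hx
  obtain ⟨d, hd, σ, rfl⟩ := Frame.exists_split hγ
  have hσK : Frame.permBar σ ∈ K := hK ▸ ⟨_, Frame.permHom_mem_cross σ, rfl⟩
  have hxe : x = Frame.bar d * Frame.permBar σ := by rw [← hγx, map_mul]; rfl
  have hdK : Frame.bar d ∈ K := hK ▸ ⟨_, Frame.diag_le_cross hd, rfl⟩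
  let f := QuotientGroup.mk' N
  have hf : f ⟨x, hx⟩ = f ⟨_, hσK⟩ := by
    rw [show (⟨x, hx⟩ : K) = ⟨_, hdK⟩ * ⟨_, hσK⟩ from Subtype.ext hxe, map_mul,
      show f ⟨_, hdK⟩ = 1 from (QuotientGroup.eq_one_iff _).mpr (show Frame.bar d ∈ Frame.diagBar
        from ⟨d, hd, rfl⟩), one_mul]
  have hxp : (⟨x, hx⟩ : K) ^ p = 1 := Subtype.ext (by
    rw [SubgroupClass.coe_pow, ← hxo]; exact pow_orderOf_eq_one x)
  have hσp : σ ^ p = 1 := by
    refine Frame.eq_one_of_permBar_mem ?_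
    have h : f (⟨_, hσK⟩ ^ p) = 1 := by rw [map_pow, ← hf, ← map_pow, hxp, map_one]
    rw [map_pow]
    exact (QuotientGroup.eq_one_iff ((⟨_, hσK⟩ : K) ^ p)).mp h
  have hne : f ⟨x, hx⟩ ≠ 1 := by
    intro h
    have h' : x ∈ Frame.diagBar := (QuotientGroup.eq_one_iff (⟨x, hx⟩ : K)).mp h
    have h3 := orderOf_dvd_of_pow_eq_one (show x ^ 2 = 1 by rw [pow_two]; exact Frame.diagBar_elem h')
    rw [hxo] at h3
    exact h2 ((Nat.prime_dvd_prime_iff_eq hp Nat.prime_two).mp h3)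
  have hσ1 : σ ≠ 1 := fun e1 => hne (by
    rw [hf, show (⟨_, hσK⟩ : K) = 1 from Subtype.ext (by
      show Frame.permBar σ = 1
      rw [e1, map_one]), map_one])
  have hcop : ¬ p ∣ Nat.card f.ker := by
    rw [QuotientGroup.ker_mk']
    intro h
    have hle : Frame.diagBar ≤ K := hK ▸ Subgroup.map_mono Frame.diag_le_cross
    rw [Nat.card_congr (Subgroup.subgroupOfEquivOfLe hle).toEquiv, Frame.card_diagBar] at h
    exact h2 ((Nat.prime_dvd_prime_iff_eq hp Nat.prime_two).mp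
      (hp.dvd_of_dvd_pow (n := 11) (by norm_num; exact h)))
  obtain ⟨q, -, hq⟩ := Co1Local52.exists_conj_ker hp f hcop hxp
    (show (⟨_, hσK⟩ : K) ^ p = 1 from Subtype.ext (by
      show Frame.permBar σ ^ p = 1
      rw [← map_pow, hσp, map_one])) hf hne
  exact ⟨σ, orderOf_eq_prime hσp hσ1, q, q.2, congrArg Subtype.val hq⟩

/-- Data of a Monster type group with a standard pair. -/
theorem exists_standard (hM : IsOfMonsterType z Q) {s : G}
    (hsQ : ∃ hsc : s ∈ Cen[z], (⟨s, hsc⟩ : Cen[z]) ∈ Q) (hs : IsConj z s) (hs1 : s ≠ z) :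
    IsExtraspecialCentralizerSetting z Q 12 ∧
    ∃ (e : Cen[z] ⧸ Q ≃* Spor.Co1) (ψ : leechLattice → Q ⧸ Subgroup.center Q)
      (hle : Subgroup.centralizer ({z, s} : Set G) ≤ Cen[z]),
      IsLeechModTwoIso Q e ψ ∧
      ((e.toMonoidHom.comp (QuotientGroup.mk' Q)).comp (Subgroup.inclusion hle)).range =
        crossGroup.map Frame.bar ∧
      IsPGroup 2 ((e.toMonoidHom.comp (QuotientGroup.mk' Q)).comp (Subgroup.inclusion hle)).ker := by
  obtain ⟨hS, e0, ψ0, hψ0⟩ := hM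
  obtain ⟨hsc, hsQ⟩ := hsQ
  let q : Q := ⟨⟨s, hsc⟩, hsQ⟩
  obtain ⟨v, hv, hvq⟩ := (MonsterCore.conj_iff hS hψ0 q).mp ⟨hs, hs1⟩
  obtain ⟨e, ψ, hψ, hs'⟩ := MonsterCross.exists_standard hψ0 hv
  have hq : ψ (eightE none) = QuotientGroup.mk q := hs'.trans hvq
  obtain ⟨C2, hC2⟩ : ∃ C2, C2 = Subgroup.centralizer ({z, s} : Set G) := ⟨_, rfl⟩
  have hle : Subgroup.centralizer ({z, s} : Set G) ≤ Cen[z] := Subgroup.centralizer_le (by simp)
  refine ⟨hS, e, ψ, hle, hψ, le_antisymm ?_ ?_, ?_⟩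
  · rintro _ ⟨x, rfl⟩
    obtain ⟨g, hg⟩ := Frame.bar_surjective (e (QuotientGroup.mk (Subgroup.inclusion hle x)))
    have hcomm : (x : G) * ((q : Cen[z]) : G) = ((q : Cen[z]) : G) * (x : G) :=
      (Subgroup.mem_centralizer_iff.mp x.2 s (Or.inr rfl)).symm
    exact ⟨g, MonsterCross.cross_of_commute hψ hq (h := Subgroup.inclusion hle x) hcomm hg, hg⟩
  · rintro _ ⟨g, hg, rfl⟩
    obtain ⟨k, hk, hkq⟩ := MonsterCross.lift_cross hS hψ hq hg
    have hkm : (k : G) ∈ Subgroup.centralizer ({z, s} : Set G) := by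
      rw [Subgroup.mem_centralizer_iff]
      rintro y (rfl | rfl)
      · exact (Subgroup.mem_centralizer_singleton_iff.mp k.2).symm
      · exact hkq.symm
    exact ⟨⟨k, hkm⟩, hk⟩
  · refine hS.2.2.1.1.1.of_injective
      (((Subgroup.inclusion hle).comp (Subgroup.subtype _)).codRestrict Q fun x => ?_) ?_
    · exact (QuotientGroup.eq_one_iff _).mp (e.injective ((MonoidHom.mem_ker.mp x.2).trans (map_one e).symm))
    · intro x y h
      exact Subtype.ext (Subgroup.inclusion_injective hle (congrArg Subtype.val h))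

omit [Finite G] in
theorem pr_ne_one {b : Cen[z]} {p : ℕ} (hp : p.Prime) (h2 : p ≠ 2)
    (hS : IsExtraspecialCentralizerSetting z Q 12) (e : Cen[z] ⧸ Q ≃* Spor.Co1)
    (hb : b ^ p = 1) (hb1 : b ≠ 1) :
    orderOf (e (QuotientGroup.mk b)) = p := by
  have : Fact p.Prime := ⟨hp⟩
  refine orderOf_eq_prime (by rw [← map_pow, ← QuotientGroup.mk_pow, hb]; exact map_one e) fun h1 => ?_
  have hmem : b ∈ Q := (QuotientGroup.eq_one_iff _).mp (e.injective (h1.trans (map_one e).symm))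
  have h3 : (⟨b, hmem⟩ : Q) ^ Nat.card Q = 1 := pow_card_eq_one'
  rw [hS.2.2.2.1] at h3
  have h4 : b ^ (2 ^ (2 * 12 + 1)) = 1 := by
    simpa only [SubgroupClass.coe_pow, OneMemClass.coe_one] using congrArg Subtype.val h3
  have h5 := pow_gcd_eq_one.mpr ⟨hb, h4⟩
  rw [(((Nat.coprime_primes hp Nat.prime_two).mpr h2).pow_right _ :
    Nat.gcd p (2 ^ (2 * 12 + 1)) = 1), pow_one] at h5
  exact hb1 h5

omit [Finite G] in
/-- Retwisting onto the coded permutation. -/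
theorem ctx_of_conj {D : LocData} {H : D.Good} (hS : IsExtraspecialCentralizerSetting z Q 12)
    (hψ : IsLeechModTwoIso Q e ψ) {b : Cen[z]} (hb : b ^ D.p = 1) {c : Spor.Co1}
    (hc : c * e (QuotientGroup.mk b) * c⁻¹ = H.β) :
    ∃ (e' : Cen[z] ⧸ Q ≃* Spor.Co1) (ψ' : leechLattice → Q ⧸ Subgroup.center Q),
      Ctx H z Q e' ψ' b := by
  obtain ⟨γ, rfl⟩ := Frame.bar_surjective c
  refine ⟨e.trans (MulAut.conj (Frame.bar γ⁻¹)⁻¹), fun w => ψ (γ⁻¹ • w),
    ⟨hS, retwist hψ γ⁻¹, hb, ?_⟩⟩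
  show MulAut.conj (Frame.bar γ⁻¹)⁻¹ (e (QuotientGroup.mk b)) = H.β
  rw [map_inv Frame.bar, inv_inv, MulAut.conj_apply]
  exact hc

end Cfsg.Agent.Lib.MonsterLocal52
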