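import Cfsg.Agent.Lib.MonsterLocal52.Decomp

/-!
Words in the coded permutations, and a chain criterion for a group of permutations to contain the
alternating group.

Owner: helper52.
-/

set_option autoImplicit false

namespace Cfsg.Agent.Lib.MonsterLocal52

open Equiv

/-- A group with transversals along a chain of point stabilisers contains every even permutation. -/
theorem alternating_le {n : ℕ} (R : Subgroup (Perm (Fin n)))
    (h : ∀ i j : Fin n, i.val + 2 < n → i ≤ j →
      ∃ t ∈ R, t ∈ alternatingGroup (Fin n) ∧ (∀ x : Fin n, x < i → t x = x) ∧ t i = j) :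
    alternatingGroup (Fin n) ≤ R := by
  have key : ∀ k i, n ≤ i + k + 2 → ∀ σ : Perm (Fin n), σ ∈ alternatingGroup (Fin n) →
      (∀ x : Fin n, x.val < i → σ x = x) → σ ∈ R := by
    intro k
    induction k with
    | zero =>
      intro i hi σ hσ hfix
      have hsub : σ.support ⊆ Finset.univ.filter fun x : Fin n => i ≤ x.val := by
        intro x hx
        rw [Perm.mem_support] at hx
        simp only [Finset.mem_filter, Finset.mem_univ, true_and]
        by_contra hlt
        exact hx (hfix x (not_le.mp hlt))
      have hcard : σ.support.card ≤ 2 := by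
        refine (Finset.card_le_card hsub).trans ?_
        refine le_trans (Finset.card_le_card_of_injOn (fun x : Fin n => x.val - i) (t := Finset.range 2)
          (fun x hx => ?_) fun x hx y hy e => ?_) (by simp)
        · simp only [Finset.coe_filter, Finset.mem_univ, true_and, Set.mem_setOf_eq] at hx
          simp only [Finset.coe_range, Set.mem_Iio]
          have := x.isLt
          omega
        · simp only [Finset.coe_filter, Finset.mem_univ, true_and, Set.mem_setOf_eq] at hx hy
          apply Fin.ext
          simp only at e
          omega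
      rcases (show σ.support.card ≤ 1 ∨ σ.support.card = 2 by omega) with h1 | h2
      · rw [Perm.card_support_le_one.mp h1]
        exact one_mem R
      · have hs := (Perm.card_support_eq_two.mp h2).sign_eq
        rw [Perm.mem_alternatingGroup] at hσ
        rw [hσ] at hs
        exact absurd hs (by decide)
    | succ k ih =>
      intro i hi σ hσ hfix
      by_cases hlt : i + 2 < n
      · have hin : i < n := by omega
        have hij : (⟨i, hin⟩ : Fin n) ≤ σ ⟨i, hin⟩ := by
          by_contra hc
          have h1 : (σ ⟨i, hin⟩).val < i := not_le.mp hc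
          have h2 := σ.injective (hfix _ h1)
          rw [h2] at h1
          exact lt_irrefl _ h1
        obtain ⟨t, ht, hte, htfix, hti⟩ := h ⟨i, hin⟩ (σ ⟨i, hin⟩) hlt hij
        have h' := ih (i + 1) (by omega) (t⁻¹ * σ) (mul_mem (inv_mem hte) hσ) fun x hx => by
            rw [Perm.mul_apply, Perm.inv_eq_iff_eq]
            rcases Nat.lt_succ_iff_lt_or_eq.mp hx with hx | hx
            · rw [hfix x hx, htfix x hx]
            · rw [show x = ⟨i, hin⟩ from Fin.ext hx, hti]
        have := mul_mem ht h'
        rwa [mul_inv_cancel_left] at this
      · exact ih i (by omega) σ hσ hfix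
  exact fun σ hσ => key n 0 (by omega) σ hσ fun x hx => absurd hx (Nat.not_lt_zero _)

namespace LocData

variable (D : LocData)

/-- The permutation of a word in the generators. -/
def wordPerm (w : List ℕ) : Perm (Fin D.n) :=
  (w.map fun k => D.permE (D.allG.getD k ([], ⟨[], [], []⟩)).2).prod

/-- The indices in a word are in range. -/
def wordOK (w : List ℕ) : Bool := w.all fun k => Nat.blt k D.allG.length

theorem wordPerm_mem {D : LocData} (H : D.Good) {w : List ℕ} (hw : D.wordOK w = true) :
    D.wordPerm w ∈ H.phi.range := by
  refine Submonoid.list_prod_mem _ ?_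
  simp only [wordOK, List.all_eq_true, Nat.blt_eq] at hw
  intro f hf
  obtain ⟨k, hk, rfl⟩ := List.mem_map.mp hf
  exact ⟨⟨_, (H.gen_spec (Good.mem_allG (hw k hk) rfl)).1⟩,
    H.movesPerm_eq _ (H.gen_spec (Good.mem_allG (hw k hk) rfl)).2.2.1⟩

end LocData

end Cfsg.Agent.Lib.MonsterLocal52
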