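import Cfsg.Agent.Lib.Co3Model.Ops
import Cfsg.Agent.Lib.M24Classes.Classes
import Cfsg.Agent.Lib.Leech.PointStab

/-!
The lattice vectors fixed by a coded permutation with eight orbits, in coordinates given by a
coded basis and coded dual vectors.

Owner: helper52.
-/

set_option autoImplicit false

namespace Cfsg.Agent.Lib.MonsterLocal52

open Cfsg Cfsg.Agent.Lib.Leech Cfsg.Agent.Lib.Golay Cfsg.Agent.Lib.Co3Model
open Cfsg.Agent.Lib.Computation (getW)

/-! ### congruence modulo two -/

/-- Congruence modulo twice the lattice. -/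
def Eqv (u v : leechLattice) : Prop := ∃ t : leechLattice, u - v = t + t

theorem Eqv.rfl' (u : leechLattice) : Eqv u u := ⟨0, by simp⟩

theorem Eqv.symm {u v : leechLattice} (h : Eqv u v) : Eqv v u := by
  obtain ⟨t, ht⟩ := h
  exact ⟨-t, by rw [← neg_sub, ht]; abel⟩

theorem Eqv.trans {u v w : leechLattice} (h1 : Eqv u v) (h2 : Eqv v w) : Eqv u w := by
  obtain ⟨t, ht⟩ := h1
  obtain ⟨s, hs⟩ := h2
  exact ⟨t + s, by rw [show u - w = (u - v) + (v - w) by abel, ht, hs]; abel⟩

theorem Eqv.add {u v u' v' : leechLattice} (h : Eqv u v) (h' : Eqv u' v') :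
    Eqv (u + u') (v + v') := by
  obtain ⟨t, ht⟩ := h
  obtain ⟨s, hs⟩ := h'
  exact ⟨t + s, by rw [show u + u' - (v + v') = (u - v) + (u' - v') by abel, ht, hs]; abel⟩

theorem Eqv.smul {u v : leechLattice} (h : Eqv u v) (g : Co0) : Eqv (g • u) (g • v) := by
  obtain ⟨t, ht⟩ := h
  exact ⟨g • t, by rw [← smul_sub', ht, smul_add']⟩

/-- Congruent short vectors agree up to sign. -/
theorem eq_or_neg_of_small {u v : leechLattice} (h : Eqv u v)
    (hn : sqNorm (vec u) + sqNorm (vec v) < 128) : u = v ∨ u = -v := by
  obtain ⟨t, ht⟩ := h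
  by_contra hc
  push Not at hc
  have h1 : t ≠ 0 := fun e => hc.1 (sub_eq_zero.mp (by rw [ht, e, add_zero]))
  have h2 : t + v ≠ 0 := fun e => hc.2 (by
    rw [eq_neg_of_add_eq_zero_left e] at ht
    rw [sub_eq_iff_eq_add.mp ht]; abel)
  have n1 := sqNorm_ge t.2 fun e => h1 (Subtype.ext e)
  have n2 := sqNorm_ge (t + v).2 fun e => h2 (Subtype.ext e)
  have key : sqNorm (vec u) + sqNorm (vec v) = 2 * sqNorm (vec t) + 2 * sqNorm (vec (t + v)) := by
    rw [sub_eq_iff_eq_add.mp ht]
    simp only [sqNorm, vec, AddSubgroup.coe_add, Pi.add_apply, Finset.mul_sum,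
      ← Finset.sum_add_distrib]
    exact Finset.sum_congr rfl fun i _ => by ring
  simp only [vec] at *
  omega

/-! ### lattice membership on lists -/

/-- The mask of the entries with a given residue modulo four. -/
def resMask (L : List ℤ) (k : ℤ) : ℕ :=
  (List.range 24).foldr (fun i m => if ent L i % 4 = k then m ||| 2 ^ i else m) 0

theorem resMask_testBit (L : List ℤ) (k : ℤ) {i : ℕ} (hi : i < 24) :
    (resMask L k).testBit i = decide (ent L i % 4 = k) := by
  have key : ∀ l : List ℕ,
      (l.foldr (fun i m => if ent L i % 4 = k then m ||| 2 ^ i else m) 0).testBit i =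
        (decide (i ∈ l) && decide (ent L i % 4 = k)) := by
    intro l
    induction l with
    | nil => simp
    | cons a l ih =>
      rw [List.foldr_cons]
      by_cases ha : i = a
      · subst ha
        split_ifs with h
        · simp [h]
        · simp [ih, h]
      · split_ifs with h
        · simp [ih, ha, Nat.testBit_two_pow, Ne.symm ha]
        · simp [ih, ha]
  rw [resMask, key, decide_eq_true (List.mem_range.2 hi), Bool.true_and]

/-- Membership in the lattice. -/
def inLeechL (L : List ℤ) : Bool :=
  ((List.range 24).all fun i => decide (ent L i % 2 = 0)) && inCode (resMask L 2) &&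
      decide (((List.range 24).map fun i => ent L i).sum % 8 = 0) ||
    ((List.range 24).all fun i => decide (ent L i % 2 = 1)) && inCode (resMask L 1) &&
      decide (((List.range 24).map fun i => ent L i).sum % 8 = 4)

/-- The vector of a list. -/
def vecL (L : List ℤ) : GolayPt → ℤ := fun q => ent L (idx q)

theorem mem_of_inLeechL {L : List ℤ} (h : inLeechL L = true) : vecL L ∈ leechLattice := by
  have hres : ∀ k, inCode (resMask L k) = true → IsCode (res k (vecL L)) := fun k hk => by
    convert isCode_setOfMask hk using 1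
    ext q
    rw [mem_res, mem_setOfMask, resMask_testBit L k (idx_lt q), decide_eq_true_eq]
    rfl
  have hsum : ∑ q, vecL L q = ((List.range 24).map fun i => ent L i).sum := by
    rw [sum_pts]
    refine congrArg List.sum (List.map_congr_left fun i hi => ?_)
    show ent L (idx (pt i)) = _
    rw [idx_pt (List.mem_range.1 hi)]
  simp only [inLeechL, Bool.or_eq_true, Bool.and_eq_true, List.all_eq_true, List.mem_range,
    decide_eq_true_eq] at h
  rcases h with ⟨⟨hp, hc⟩, hs⟩ | ⟨⟨hp, hc⟩, hs⟩
  · exact evenVec_mem ⟨fun q => hp _ (idx_lt q), hres 2 hc, by rw [hsum]; exact hs⟩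
  · exact oddVec_mem ⟨fun q => hp _ (idx_lt q), hres 1 hc, by rw [hsum]; exact hs⟩

/-! ### the data -/

/-- A permutation of prime order with eight orbits and coordinates on its fixed vectors. -/
structure LatData where
  /-- The permutation. -/
  r : ℕ
  /-- Its inverse. -/
  r' : ℕ
  /-- Its order. -/
  p : ℕ
  /-- The orbit of an index. -/
  slots : List ℕ
  /-- An index in each orbit. -/
  reps : List ℕ
  /-- The values of the basis on the orbits. -/
  basis : List (List ℤ)
  /-- Lattice vectors dual to the basis. -/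
  dual : List (List ℤ)
  /-- A scaled inverse of the matrix of orbit sums of the dual vectors. -/
  adj : List (List ℤ)
  /-- The scale. -/
  den : ℤ

namespace LatData

variable (D : LatData)

/-- The orbit of an index. -/
def slot (i : ℕ) : ℕ := D.slots.getD i 0

/-- The orbit of a point. -/
def slotF (q : GolayPt) : Fin 8 := ⟨D.slot (idx q) % 8, Nat.mod_lt _ (by norm_num)⟩

/-- An entry of a coded matrix. -/
def mEnt (M : List (List ℤ)) (j k : ℕ) : ℤ := (M.getD j []).getD k 0

/-- A dual vector. -/
def dualF (j : Fin 8) : GolayPt → ℤ := vecL (D.dual.getD j.val [])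

/-- The orbit sums of a dual vector. -/
def osum (j k : Fin 8) : ℤ := ∑ q ∈ Finset.univ.filter (fun q => D.slotF q = k), D.dualF j q

/-- The expanded basis vector. -/
def basL (j : Fin 8) : List ℤ := (List.range 24).map fun i => mEnt D.basis j.val (D.slot i)

/-- Iterates of the permutation on indices. -/
def itW : ℕ → ℕ → ℕ
  | 0, i => i
  | n + 1, i => getW 5 D.r (itW n i)

/-- The checks. -/
def ok : Bool :=
  (Op.perm D.r D.r').ok &&
  ((List.range 24).all fun i => Nat.blt (D.slot i) 8 && Nat.beq (D.slot (getW 5 D.r i)) (D.slot i) &&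
    (List.range D.p).any fun k => Nat.beq (D.itW k (D.reps.getD (D.slot i) 0)) i) &&
  ((List.range 8).all fun k => Nat.blt (D.reps.getD k 0) 24) &&
  ((List.finRange 8).all fun j => inLeechL (D.basL j) && inLeechL (D.dual.getD j.val [])) &&
  ((List.finRange 8).all fun j => (List.finRange 8).all fun i =>
    decide ((∑ k : Fin 8, D.osum j k * mEnt D.basis i.val k.val) = if i = j then 8 else 0) &&
      decide ((∑ l : Fin 8, mEnt D.adj j.val l.val * D.osum l i) = if i = j then D.den else 0)) &&
  decide (D.den ≠ 0)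

variable {D}

/-- The permutation as an element of the code group. -/
noncomputable def σ (h : D.ok = true) : M24 :=
  ⟨gperm D.r, gperm_mem_M24 (by
    simp only [ok, Op.ok, Bool.and_eq_true] at h
    exact h.1.1.1.1.1.1.1)⟩

/-- The lattice automorphism. -/
noncomputable def π (h : D.ok = true) : Co0 := permHom (σ h)

theorem okCode_r (h : D.ok = true) : okCode D.r = true := by
  simp only [ok, Op.ok, Bool.and_eq_true] at h
  exact okCode_of_inM24 h.1.1.1.1.1.1.1

theorem slot_lt (h : D.ok = true) (i : ℕ) (hi : i < 24) : D.slot i < 8 := by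
  simp only [ok, Bool.and_eq_true, List.all_eq_true, List.mem_range, Nat.blt_eq] at h
  exact (h.1.1.1.1.2 i hi).1.1

theorem slotF_val (h : D.ok = true) (q : GolayPt) : (D.slotF q).val = D.slot (idx q) :=
  Nat.mod_eq_of_lt (slot_lt h _ (idx_lt q))

theorem slotF_σ (h : D.ok = true) (q : GolayPt) :
    D.slotF ((σ h : Equiv.Perm GolayPt) q) = D.slotF q := by
  apply Fin.ext
  rw [slotF_val h, slotF_val h]
  show D.slot (idx (gperm D.r q)) = _
  rw [idx_gperm (okCode_r h)]
  simp only [ok, Bool.and_eq_true, List.all_eq_true, List.mem_range, Nat.beq_eq] at h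
  exact (h.1.1.1.1.2 _ (idx_lt q)).1.2

/-- The value of a fixed vector on an orbit. -/
def onSlot (D : LatData) (v : leechLattice) (k : Fin 8) : ℤ := vec v (pt (D.reps.getD k.val 0))

theorem fixed_slot (h : D.ok = true) {v : leechLattice} (hv : π h • v = v) (q : GolayPt) :
    vec v q = D.onSlot v (D.slotF q) := by
  have hfix : ∀ p, vec v ((σ h : Equiv.Perm GolayPt) p) = vec v p := fun p => by
    conv_lhs => rw [← hv]
    rw [π, permHom_apply, Equiv.symm_apply_apply]
  have hh := h
  simp only [ok, Bool.and_eq_true, List.all_eq_true, List.mem_range, List.any_eq_true, Nat.beq_eq,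
    Nat.blt_eq] at hh
  obtain ⟨k, -, hk⟩ := (hh.1.1.1.1.2 _ (idx_lt q)).2
  have hrep : D.reps.getD (D.slot (idx q)) 0 < 24 :=
    hh.1.1.1.2 _ (slot_lt h _ (idx_lt q))
  have key : ∀ n, ∃ p, idx p = D.itW n (D.reps.getD (D.slot (idx q)) 0) ∧
      vec v p = vec v (pt (D.reps.getD (D.slot (idx q)) 0)) := by
    intro n
    induction n with
    | zero => exact ⟨_, idx_pt hrep, rfl⟩
    | succ n ih =>
      obtain ⟨p, hp, hpv⟩ := ih
      refine ⟨(σ h : Equiv.Perm GolayPt) p, ?_, by rw [hfix, hpv]⟩
      show idx (gperm D.r p) = _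
      rw [idx_gperm (okCode_r h), hp]
      rfl
  obtain ⟨p, hp, hpv⟩ := key k
  rw [hk] at hp
  have e := idx_injective hp
  rw [e] at hpv
  rw [hpv, onSlot, slotF_val h]

/-- The vector with given parameters. -/
def valF (D : LatData) (P : Fin 8 → ℤ) : GolayPt → ℤ :=
  fun q => ∑ j : Fin 8, P j * mEnt D.basis j.val (D.slotF q).val

theorem valF_eq_sum (h : D.ok = true) (P : Fin 8 → ℤ) :
    D.valF P = ∑ j : Fin 8, P j • vecL (D.basL j) := by
  funext q
  simp only [valF, Finset.sum_apply, Pi.smul_apply, smul_eq_mul]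
  refine Finset.sum_congr rfl fun j _ => ?_
  have hi := idx_lt q
  rw [slotF_val h]
  simp [vecL, basL, ent, List.getD_eq_getElem?_getD, hi]

theorem valF_mem (h : D.ok = true) (P : Fin 8 → ℤ) : D.valF P ∈ leechLattice := by
  rw [valF_eq_sum h]
  refine sum_mem fun j _ => zsmul_mem (mem_of_inLeechL ?_) _
  simp only [ok, Bool.and_eq_true, List.all_eq_true] at h
  exact (h.1.1.2 j (List.mem_finRange j)).1

/-- The lattice vector with given parameters. -/
def val (h : D.ok = true) (P : Fin 8 → ℤ) : leechLattice := ⟨D.valF P, valF_mem h P⟩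

theorem val_add (h : D.ok = true) (P R : Fin 8 → ℤ) : val h (P + R) = val h P + val h R := by
  apply Subtype.ext
  funext q
  show D.valF (P + R) q = D.valF P q + D.valF R q
  simp only [valF, Pi.add_apply, add_mul, Finset.sum_add_distrib]

theorem val_zero (h : D.ok = true) : val h 0 = 0 := by
  apply Subtype.ext
  funext q
  show D.valF 0 q = 0
  simp [valF]

theorem val_neg (h : D.ok = true) (P : Fin 8 → ℤ) : val h (-P) = -val h P :=
  eq_neg_of_add_eq_zero_left (by rw [← val_add, neg_add_cancel, val_zero])

theorem val_fixed (h : D.ok = true) (P : Fin 8 → ℤ) : π h • val h P = val h P := by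
  apply Subtype.ext
  funext q
  show vec (π h • val h P) q = D.valF P q
  rw [π, permHom_apply]
  show D.valF P _ = _
  simp only [valF]
  rw [← slotF_σ h ((σ h : Equiv.Perm GolayPt).symm q), Equiv.apply_symm_apply]

/-- The parameters of a vector. -/
def parOf (D : LatData) (x : GolayPt → ℤ) : Fin 8 → ℤ := fun j => dotInt (D.dualF j) x / 8

theorem dot_slots (x : GolayPt → ℤ) (c : Fin 8 → ℤ) (hx : ∀ q, x q = c (D.slotF q)) (j : Fin 8) :
    dotInt (D.dualF j) x = ∑ k : Fin 8, D.osum j k * c k := by
  rw [dotInt, ← Finset.sum_fiberwise Finset.univ D.slotF]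
  refine Finset.sum_congr rfl fun k _ => ?_
  rw [osum, Finset.sum_mul]
  refine Finset.sum_congr rfl fun q hq => ?_
  rw [hx, (Finset.mem_filter.mp hq).2]

theorem osum_basis (h : D.ok = true) (i j : Fin 8) :
    ∑ k : Fin 8, D.osum j k * mEnt D.basis i.val k.val = if i = j then 8 else 0 := by
  simp only [ok, Bool.and_eq_true, List.all_eq_true, decide_eq_true_eq] at h
  exact (h.1.2 j (List.mem_finRange j) i (List.mem_finRange i)).1

theorem dot_valF (h : D.ok = true) (P : Fin 8 → ℤ) (j : Fin 8) :
    dotInt (D.dualF j) (D.valF P) = 8 * P j := by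
  rw [dot_slots (D.valF P) (fun k => ∑ i : Fin 8, P i * mEnt D.basis i.val k.val) (fun q => rfl)]
  simp only [Finset.mul_sum]
  rw [Finset.sum_comm]
  have : ∀ i : Fin 8, ∑ k : Fin 8, D.osum j k * (P i * mEnt D.basis i.val k.val) =
      P i * if i = j then 8 else 0 := fun i => by
    rw [← osum_basis h i j, Finset.mul_sum]
    exact Finset.sum_congr rfl fun k _ => by ring
  simp only [this, mul_ite, mul_zero, Finset.sum_ite_eq', Finset.mem_univ, if_true]
  ring

theorem parOf_val (h : D.ok = true) (P : Fin 8 → ℤ) : D.parOf (D.valF P) = P := by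
  funext j
  rw [parOf, dot_valF h, Int.mul_ediv_cancel_left _ (by norm_num)]

theorem val_injective (h : D.ok = true) : Function.Injective (val h) := fun P R e => by
  rw [← parOf_val h P, ← parOf_val h R]
  exact congrArg D.parOf (congrArg Subtype.val e)

theorem dual_mem (h : D.ok = true) (j : Fin 8) : D.dualF j ∈ leechLattice := by
  simp only [ok, Bool.and_eq_true, List.all_eq_true] at h
  exact mem_of_inLeechL (h.1.1.2 j (List.mem_finRange j)).2

/-- Every fixed vector is given by parameters. -/
theorem exists_val (h : D.ok = true) {v : leechLattice} (hv : π h • v = v) :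
    ∃ P, v = val h P := by
  refine ⟨D.parOf (vec v), ?_⟩
  obtain ⟨u, hu⟩ : ∃ u, u = v - val h (D.parOf (vec v)) := ⟨_, rfl⟩
  have hufix : π h • u = u := by rw [hu, smul_sub', hv, val_fixed]
  have hdot : ∀ j, ∑ k : Fin 8, D.osum j k * D.onSlot u k = 0 := fun j => by
    rw [← dot_slots (vec u) _ (fixed_slot h hufix)]
    have e1 : dotInt (D.dualF j) (vec u) =
        dotInt (D.dualF j) (vec v) - dotInt (D.dualF j) (D.valF (D.parOf (vec v))) := by
      rw [hu]
      simp only [dotInt, vec, AddSubgroup.coe_sub, Pi.sub_apply, mul_sub, Finset.sum_sub_distrib]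
      rfl
    rw [e1, dot_valF h, parOf]
    obtain ⟨a, ha⟩ := dotInt_dvd (dual_mem h j) v.2
    simp only [vec] at ha ⊢
    omega
  have hzero : ∀ k, D.onSlot u k = 0 := fun k => by
    have h2 := h
    simp only [ok, Bool.and_eq_true, List.all_eq_true, decide_eq_true_eq] at h2
    have hd : D.den * D.onSlot u k = 0 := by
      have e : ∑ i : Fin 8, (∑ l : Fin 8, mEnt D.adj k.val l.val * D.osum l i) * D.onSlot u i = 0 := by
        simp only [Finset.sum_mul, mul_assoc]
        rw [Finset.sum_comm]
        simp only [← Finset.mul_sum, hdot, mul_zero, Finset.sum_const_zero]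
      rw [Finset.sum_congr rfl fun i _ => by
        rw [(h2.1.2 k (List.mem_finRange k) i (List.mem_finRange i)).2]] at e
      simpa [ite_mul] using e
    exact (mul_eq_zero.mp hd).resolve_left h2.2
  have hu0 : u = 0 := Subtype.ext (funext fun q => by
    show vec u q = 0
    rw [fixed_slot h hufix q, hzero])
  rw [hu0] at hu
  exact sub_eq_zero.mp hu.symm

/-- The classes of fixed vectors. -/
abbrev V8 : Type := Fin 8 → ZMod 2

/-- Reduction of parameters. -/
def red (P : Fin 8 → ℤ) : V8 := fun j => (P j : ZMod 2)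

theorem red_add (P R : Fin 8 → ℤ) : red (P + R) = red P + red R := by
  funext j
  simp [red]

theorem eqv_val_iff (h : D.ok = true) {P R : Fin 8 → ℤ} :
    Eqv (val h P) (val h R) ↔ red P = red R := by
  constructor
  · rintro ⟨t, ht⟩
    have ht' : π h • t = t := by
      have h2 : (2 : ℤ) • (π h • t) = (2 : ℤ) • t := by
        rw [two_zsmul, two_zsmul, ← ht, ← smul_add', ← ht, smul_sub', val_fixed, val_fixed]
      exact leech_zsmul_injective (n := 2) (by norm_num) h2
    obtain ⟨T, rfl⟩ := exists_val h ht'
    rw [sub_eq_iff_eq_add, ← val_add, ← val_add] at ht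
    rw [val_injective h ht, red_add, red_add, CharTwo.add_self_eq_zero, zero_add]
  · intro hr
    have hd : ∀ j, ∃ k, P j - R j = 2 * k := fun j =>
      Int.dvd_of_emod_eq_zero (Int.emod_eq_zero_of_dvd
        ((ZMod.intCast_zmod_eq_zero_iff_dvd _ 2).mp (by
          push_cast
          exact sub_eq_zero.mpr (congrFun hr j))))
    choose T hT using hd
    refine ⟨val h T, ?_⟩
    rw [sub_eq_iff_eq_add, ← val_add, ← val_add]
    congr 1
    funext j
    have := hT j
    simp only [Pi.add_apply]
    omega

end LatData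

end Cfsg.Agent.Lib.MonsterLocal52
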