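import Cfsg.Agent.Lib.MonsterLocal52.Fixed
import Cfsg.Agent.Lib.Balance.Locals

/-!
Monster type: the centraliser of the element over the coded permutation modulo that element has an
involution with an extraspecial subgroup of order `2 ^ 9` and the coded quotient.

Owner: helper52.
-/

set_option autoImplicit false
set_option maxRecDepth 20000

namespace Cfsg.Agent.Lib.MonsterLocal52

open Cfsg Cfsg.Agent.Lib.Leech
open Cfsg.Agent.Lib.LeechMod2

local notation "Cen[" z "]" => Subgroup.centralizer ({z} : Set _)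

variable {D : LocData} {H : D.Good} {G : Type*} [Group G] [Finite G] {z : G}
  {Q : Subgroup (Subgroup.centralizer ({z} : Set G))}
  [Q.Normal] {e : Cen[z] ⧸ Q ≃* Spor.Co1} {ψ : leechLattice → Q ⧸ Subgroup.center Q}
  {b : Subgroup.centralizer ({z} : Set G)} {B : Subgroup G}

namespace Ctx

variable (X : Ctx H z Q e ψ b) (hB : B = Subgroup.zpowers (b : G))

include hB in
omit [Finite G] [Q.Normal] in
theorem mem_CB {g : G} : g ∈ Subgroup.centralizer (B : Set G) ↔ Commute g (b : G) := by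
  subst hB
  rw [Subgroup.mem_centralizer_iff]
  constructor
  · exact fun h => (h _ (Subgroup.mem_zpowers _)).symm
  · rintro h x ⟨i, rfl⟩
    exact (h.zpow_right i).eq.symm

/-- The inclusion. -/
noncomputable def toCB : X.HH →* Subgroup.centralizer (B : Set G) :=
  (Cen[z].subtype.comp X.HH.subtype).codRestrict _ fun h => (mem_CB hB).mpr
    (congrArg Subtype.val (Subgroup.mem_centralizer_singleton_iff.mp h.2))

omit [Finite G] in
theorem toCB_coe (h : X.HH) : (X.toCB hB h : G) = ((h : Cen[z]) : G) := rfl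

variable [hn : (B.subgroupOf (Subgroup.centralizer (B : Set G))).Normal]

/-- The quotient. -/
abbrev GN (B : Subgroup G) [(B.subgroupOf (Subgroup.centralizer (B : Set G))).Normal] : Type _ :=
  Subgroup.centralizer (B : Set G) ⧸ B.subgroupOf (Subgroup.centralizer (B : Set G))

/-- The map to the quotient. -/
noncomputable def pS : X.HH →* GN B := (QuotientGroup.mk' _).comp (X.toCB hB)

theorem pS_eq_one {h : X.HH} : X.pS hB h = 1 ↔ (h : Cen[z]) ∈ Subgroup.zpowers b := by
  show (QuotientGroup.mk (X.toCB hB h) : GN B) = 1 ↔ _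
  rw [QuotientGroup.eq_one_iff, Subgroup.mem_subgroupOf, toCB_coe, Subgroup.mem_zpowers_iff]
  constructor
  · intro hh
    rw [hB, Subgroup.mem_zpowers_iff] at hh
    obtain ⟨i, hi⟩ := hh
    exact ⟨i, Subtype.ext (by rw [SubgroupClass.coe_zpow]; exact hi)⟩
  · rintro ⟨i, hi⟩
    rw [hB, ← hi, SubgroupClass.coe_zpow]
    exact zpow_mem (Subgroup.mem_zpowers _) i

theorem pS_injOn {q r : X.HH} (hq : q ∈ X.Q0) (hr : r ∈ X.Q0) (h : X.pS hB q = X.pS hB r) :
    q = r := by
  have h1 : ((q * r⁻¹ : X.HH) : Cen[z]) ∈ Subgroup.zpowers b :=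
    (X.pS_eq_one hB).mp (by rw [map_mul, map_inv, h, mul_inv_cancel])
  exact mul_inv_eq_one.mp (Subtype.ext (X.zpowers_inter h1 (mul_mem hq (inv_mem hr))))

/-- The involution. -/
noncomputable def zS : GN B := X.pS hB X.zh

/-- Lifting a conjugation between involutions. -/
theorem lift_conj {x : G} (hxb : Commute x (b : G)) (hx : x ∈ Subgroup.centralizer (B : Set G))
    (hx2 : x * x = 1) {c : Subgroup.centralizer (B : Set G)}
    (h : (QuotientGroup.mk c : GN B) * X.zS hB * (QuotientGroup.mk c)⁻¹ =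
      QuotientGroup.mk (⟨x, hx⟩ : Subgroup.centralizer (B : Set G))) :
    (c : G) * z * (c : G)⁻¹ = x := by
  have h1 : (QuotientGroup.mk (⟨x, hx⟩⁻¹ * (c * X.toCB hB X.zh * c⁻¹)) : GN B) = 1 := by
    show (QuotientGroup.mk (⟨x, hx⟩ : Subgroup.centralizer (B : Set G)))⁻¹ *
      ((QuotientGroup.mk c : GN B) * X.zS hB * (QuotientGroup.mk c)⁻¹) = 1
    rw [h, inv_mul_cancel]
  rw [QuotientGroup.eq_one_iff, Subgroup.mem_subgroupOf] at h1
  obtain ⟨i, hi⟩ : ∃ i : ℤ, (b : G) ^ i = x⁻¹ * ((c : G) * z * (c : G)⁻¹) :=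
    Subgroup.mem_zpowers_iff.mp (hB ▸ h1)
  have hz2 : z * z = 1 := by
    have := pow_orderOf_eq_one z
    rwa [X.hS.1, pow_two] at this
  have hcz : (c : G) * z * (c : G)⁻¹ = x * (b : G) ^ i := by rw [hi, mul_inv_cancel_left]
  have h2 : (x * (b : G) ^ i) * (x * (b : G) ^ i) = 1 := by
    rw [← hcz, conj_mul, hz2, mul_one, mul_inv_cancel]
  have hxi : Commute x ((b : G) ^ i) := hxb.zpow_right i
  rw [mul_assoc, ← mul_assoc ((b : G) ^ i), ← hxi.eq, mul_assoc, ← mul_assoc x, hx2, one_mul] at h2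
  have hp : ((b : G) ^ i) ^ D.p = 1 := by
    rw [← zpow_natCast, ← zpow_mul, mul_comm, zpow_mul, zpow_natCast, ← SubgroupClass.coe_pow,
      X.hbp, OneMemClass.coe_one, one_zpow]
  obtain ⟨m, hm⟩ := H.prime.eq_two_or_odd'.resolve_left H.odd
  rw [hm, pow_succ, pow_mul, pow_two, h2, one_pow, one_mul] at hp
  rw [hcz, hp, mul_one]

theorem zS_sq : X.zS hB * X.zS hB = 1 := by
  rw [zS, ← map_mul, show X.zh * X.zh = 1 from Subtype.ext (Subtype.ext (by
    show z * z = 1
    have := pow_orderOf_eq_one z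
    rwa [X.hS.1, pow_two] at this)), map_one]

omit hn in
theorem zh_ne_one : X.zh ≠ 1 := fun h => by
  have h1 : z = 1 := congrArg (fun y : X.HH => ((y : Cen[z]) : G)) h
  have h2 := X.hS.1
  rw [h1, orderOf_one] at h2
  norm_num at h2

theorem zS_order : orderOf (X.zS hB) = 2 :=
  orderOf_eq_prime (by rw [pow_two]; exact X.zS_sq hB) fun h =>
    X.zh_ne_one (X.pS_injOn hB X.zh_mem (one_mem _) (h.trans (map_one _).symm))

omit hn in
theorem commute_zh (h : X.HH) : Commute h X.zh :=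
  Subtype.ext (Subtype.ext (Subgroup.mem_centralizer_singleton_iff.mp (h : Cen[z]).2))

/-- The map onto the centraliser of the involution. -/
noncomputable def pC : X.HH →* Subgroup.centralizer ({X.zS hB} : Set (GN B)) :=
  (X.pS hB).codRestrict _ fun h => Subgroup.mem_centralizer_singleton_iff.mpr
    ((X.commute_zh h).map (X.pS hB)).eq

theorem pC_coe (h : X.HH) : (X.pC hB h : GN B) = X.pS hB h := rfl

theorem pC_surjective : Function.Surjective (X.pC hB) := by
  rintro ⟨c, hc⟩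
  obtain ⟨g, rfl⟩ := QuotientGroup.mk_surjective c
  have hzB : z ∈ Subgroup.centralizer (B : Set G) :=
    (mem_CB hB).mpr (Subgroup.mem_centralizer_singleton_iff.mp b.2).symm
  have hz2 : z * z = 1 := by
    have := pow_orderOf_eq_one z
    rwa [X.hS.1, pow_two] at this
  have h1 := X.lift_conj hB (Subgroup.mem_centralizer_singleton_iff.mp b.2).symm hzB hz2 (c := g) (by
    rw [Subgroup.mem_centralizer_singleton_iff.mp hc, mul_inv_cancel_right]
    rfl)
  have hgz : (g : G) ∈ Cen[z] :=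
    Subgroup.mem_centralizer_singleton_iff.mpr (mul_inv_eq_iff_eq_mul.mp h1)
  exact ⟨⟨⟨g, hgz⟩, Subgroup.mem_centralizer_singleton_iff.mpr
    (Subtype.ext ((mem_CB hB).mp g.2).eq)⟩, Subtype.ext rfl⟩

theorem pC_injOn {q r : X.HH} (hq : q ∈ X.Q0) (hr : r ∈ X.Q0) (h : X.pC hB q = X.pC hB r) :
    q = r := X.pS_injOn hB hq hr (congrArg Subtype.val h)

/-- The extraspecial subgroup. -/
noncomputable def QC : Subgroup (Subgroup.centralizer ({X.zS hB} : Set (GN B))) :=
  X.Q0.map (X.pC hB)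

theorem mem_QC {c : Subgroup.centralizer ({X.zS hB} : Set (GN B))} :
    c ∈ X.QC hB ↔ ∃ q ∈ X.Q0, X.pC hB q = c := Subgroup.mem_map

instance QC_normal : (X.QC hB).Normal :=
  Subgroup.Normal.map inferInstance _ (X.pC_surjective hB)

/-- The isomorphism with the fixed part. -/
noncomputable def isoQC : X.Q0 ≃* X.QC hB :=
  MulEquiv.ofBijective (((X.pC hB).comp X.Q0.subtype).codRestrict (X.QC hB)
      fun q => Subgroup.mem_map_of_mem _ q.2)
    ⟨fun q r h => Subtype.ext (X.pC_injOn hB q.2 r.2 (congrArg Subtype.val h)), fun c => by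
      obtain ⟨q, hq, e1⟩ := (X.mem_QC hB).1 c.2
      exact ⟨⟨q, hq⟩, Subtype.ext e1⟩⟩

omit hn in
theorem extraspecial_Q0 : IsExtraspecial 2 X.Q0 := by
  obtain ⟨a, s, -, -⟩ := X.setting
  have hqmap : ∀ q : X.Q0, (((q : X.HH) : Cen[z]) : G) ∈ Q.map Cen[z].subtype :=
    fun q => ⟨_, q.2, rfl⟩
  refine Co1Local52.extraspecial_of (IsPGroup.of_card X.card_Q0) ⟨X.zh, X.zh_mem⟩
    (fun h => X.zh_ne_one (congrArg Subtype.val h)) (fun g => Subtype.ext (X.commute_zh _).eq)
    (fun g => ?_) (fun g h => ?_) (fun g h1 h2 => ?_) ?_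
  · rcases s.es.sq_cases (hqmap g) with e1 | e1
    · exact Or.inl (Subtype.ext (Subtype.ext (Subtype.ext e1)))
    · exact Or.inr (Subtype.ext (Subtype.ext (Subtype.ext e1)))
  · rcases s.es.conj _ (hqmap h) _ (hqmap g) with e1 | e1
    · exact Or.inl (Subtype.ext (Subtype.ext (Subtype.ext e1)))
    · exact Or.inr (Subtype.ext (Subtype.ext (Subtype.ext e1)))
  · obtain ⟨r, hr, hre⟩ := X.exists_move g.2 (fun e1 => h1 (Subtype.ext e1))
      (fun e1 => h2 (Subtype.ext e1))
    exact ⟨⟨r, hr⟩, Subtype.ext hre⟩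
  · obtain ⟨q, hq, hqx⟩ := X.coord_surjective (vecC D.s0)
    have hne := X.s0_ne_zero
    refine ⟨⟨q, hq⟩, fun h => hne ?_, fun h => hne ?_⟩
    · rw [← hqx, (X.coord_eq_zero hq).mpr (Or.inl (congrArg Subtype.val h))]
    · rw [← hqx, (X.coord_eq_zero hq).mpr (Or.inr (congrArg Subtype.val h))]

theorem theta_of_ker : (X.pC hB).ker ≤ X.theta.ker := by
  intro h hh
  rw [MonoidHom.mem_ker] at hh ⊢
  obtain ⟨i, hi⟩ : (h : Cen[z]) ∈ Submonoid.powers b := by
    rw [(orderOf_pos_iff.mp (by rw [X.orderOf_b]; exact H.prime.pos) :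
      IsOfFinOrder b).mem_powers_iff_mem_zpowers]
    exact (X.pS_eq_one hB).mp (congrArg Subtype.val hh)
  exact X.theta_eq_one.mpr ⟨i, 1, one_mem _, by rw [mul_one]; exact hi.symm⟩

/-- The action of the centraliser of the involution on the objects. -/
noncomputable def thetaC : Subgroup.centralizer ({X.zS hB} : Set (GN B)) →*
    Equiv.Perm (Fin D.n) :=
  (X.pC hB).liftOfSurjective (X.pC_surjective hB) ⟨X.theta, X.theta_of_ker hB⟩

theorem thetaC_pC (h : X.HH) : X.thetaC hB (X.pC hB h) = X.theta h :=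
  MonoidHom.liftOfRightInverse_comp_apply _ _ _ _ h

theorem range_thetaC : (X.thetaC hB).range = H.phi.range := by
  rw [← X.range_theta]
  ext f
  constructor
  · rintro ⟨c, rfl⟩
    obtain ⟨h, rfl⟩ := X.pC_surjective hB c
    exact ⟨h, (X.thetaC_pC hB h).symm⟩
  · rintro ⟨h, rfl⟩
    exact ⟨X.pC hB h, X.thetaC_pC hB h⟩

theorem mem_QC_of_theta {h : X.HH} (hh : X.theta h = 1) : X.pC hB h ∈ X.QC hB := by
  obtain ⟨j, q, hq, e1⟩ := X.theta_eq_one.mp hh
  have hbH : b ∈ X.HH := Subgroup.mem_centralizer_singleton_iff.mpr rfl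
  let bH : X.HH := ⟨b, hbH⟩
  have hqH : q ∈ X.HH := by
    have : q = (((bH ^ j)⁻¹ * h : X.HH) : Cen[z]) := by
      rw [Subgroup.coe_mul, Subgroup.coe_inv, SubgroupClass.coe_pow, e1, inv_mul_cancel_left]
    rw [this]
    exact Subtype.coe_prop _
  refine (X.mem_QC hB).mpr ⟨⟨q, hqH⟩, hq, Subtype.ext ?_⟩
  rw [pC_coe, pC_coe, show h = bH ^ j * ⟨q, hqH⟩ from Subtype.ext e1, map_mul,
    (X.pS_eq_one hB).mpr (show ((bH ^ j : X.HH) : Cen[z]) ∈ Subgroup.zpowers b by
      rw [SubgroupClass.coe_pow]; exact pow_mem (Subgroup.mem_zpowers b) j), one_mul]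

theorem ker_thetaC : (X.thetaC hB).ker = X.QC hB := by
  refine le_antisymm (fun c hc => ?_) ?_
  · obtain ⟨h, rfl⟩ := X.pC_surjective hB c
    rw [MonoidHom.mem_ker, thetaC_pC] at hc
    exact X.mem_QC_of_theta hB hc
  · rintro _ ⟨q, hq, rfl⟩
    rw [MonoidHom.mem_ker, thetaC_pC, X.theta_eq_one]
    exact ⟨0, _, hq, by rw [pow_zero, one_mul]; rfl⟩

theorem centralizer_QC_le :
    Subgroup.centralizer (X.QC hB : Set (Subgroup.centralizer ({X.zS hB} : Set (GN B)))) ≤ X.QC hB := by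
  intro c hc
  obtain ⟨h, rfl⟩ := X.pC_surjective hB c
  refine X.mem_QC_of_theta hB ?_
  have hfix : ∀ q ∈ X.Q0, h * q * h⁻¹ = q := fun q hq => by
    refine X.pC_injOn hB ((inferInstance : X.Q0.Normal).conj_mem q hq h) hq ?_
    rw [map_mul, map_mul, map_inv, ← Subgroup.mem_centralizer_iff.mp hc _
      ((X.mem_QC hB).mpr ⟨q, hq, rfl⟩), mul_inv_cancel_right]
  obtain ⟨g, hg, hgfix⟩ : ∃ g : H.CC, H.phi g = X.theta h ∧
      ∀ x, H.act (g : Co0) x = x := by
    obtain ⟨q, hq, -⟩ := X.coord_surjective 0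
    obtain ⟨g, hg, -⟩ := X.coord_conj h hq
    refine ⟨g, hg, fun x => ?_⟩
    obtain ⟨r, hr, hrx⟩ := X.coord_surjective x
    obtain ⟨g', hg', hgr⟩ := X.coord_conj h hr
    rw [hfix r hr, hrx] at hgr
    obtain ⟨j, hj⟩ := H.phi_eq_one (g := g * g'⁻¹) (by rw [map_mul, map_inv, hg, hg', mul_inv_cancel])
    obtain ⟨k, hk⟩ : ∃ k : Co0, k = (g : Co0) * (g' : Co0)⁻¹ := ⟨_, rfl⟩
    have hk' : (g : Co0) = k * g' := by rw [hk, inv_mul_cancel_right]
    have hπj : ∀ n : ℕ, ∀ y, H.act (LatData.π H.lat ^ n) y = y := by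
      intro n
      induction n with
      | zero => intro y; rw [pow_zero]; exact LatData.actV_one H.lat y
      | succ n ih =>
        intro y
        show LatData.actV H.lat _ y = y
        rw [pow_succ, LatData.actV_mul H.lat (pow_mem (LatData.π_mem H.lat) n) (LatData.π_mem H.lat),
          LatData.actV_π]
        exact ih y
    have hkact : H.act k x = x := by
      rcases hj with e1 | e1 <;> rw [Subgroup.coe_mul, Subgroup.coe_inv, ← hk] at e1 <;> rw [e1]
      · exact hπj j x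
      · show LatData.actV H.lat _ x = x
        rw [LatData.actV_mul H.lat (LatData.negOne_mem H.lat) (pow_mem (LatData.π_mem H.lat) j),
          LatData.actV_negOne]
        exact hπj j x
    show LatData.actV H.lat _ x = x
    rw [hk', LatData.actV_mul H.lat (hk ▸ mul_mem g.2 (inv_mem g'.2)) g'.2]
    show H.act k (H.act g' x) = x
    rw [← hgr]
    exact hkact
  rw [← hg]
  exact H.movesPerm_eq g fun _ c hc => ⟨c, hc, hgfix _⟩

theorem pCore_eq (hL : ∀ N : Subgroup H.phi.range, N.Normal → IsPGroup 2 N → N = ⊥) :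
    pCore 2 (Subgroup.centralizer ({X.zS hB} : Set (GN B))) = X.QC hB := by
  haveI : Fact (Nat.Prime 2) := ⟨Nat.prime_two⟩
  refine le_antisymm ?_ (le_sSup ⟨inferInstance,
    IsPGroup.of_card (n := 9) (by rw [← Nat.card_congr (X.isoQC hB).toEquiv, X.card_Q0])⟩)
  let f := (X.thetaC hB).codRestrict H.phi.range fun c => by
    rw [← X.range_thetaC hB]; exact ⟨c, rfl⟩
  have hf : Function.Surjective f := fun y => by
    obtain ⟨c, hc⟩ : y.1 ∈ (X.thetaC hB).range := by rw [X.range_thetaC hB]; exact y.2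
    exact ⟨c, Subtype.ext hc⟩
  have hnorm : ((pCore 2 (Subgroup.centralizer ({X.zS hB} : Set (GN B)))).map f).Normal :=
    Subgroup.Normal.map inferInstance _ hf
  have h := hL _ hnorm ((Cores.pCore_isPGroup 2).map f)
  rw [Subgroup.map_eq_bot_iff] at h
  refine h.trans fun c hc => ?_
  rw [← X.ker_thetaC hB, MonoidHom.mem_ker]
  exact congrArg Subtype.val (MonoidHom.mem_ker.mp hc)

include X hB in
/-- The setting and the quotient. -/
theorem local_type (hL : ∀ N : Subgroup H.phi.range, N.Normal → IsPGroup 2 N → N = ⊥)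
    {L : Type*} [Group L] (eL : H.phi.range ≃* L) :
    ∃ (z' : GN B) (R : Subgroup (Subgroup.centralizer ({z'} : Set (GN B)))) (_ : R.Normal),
      IsExtraspecialCentralizerSetting z' R 4 ∧
      Nonempty ((Subgroup.centralizer ({z'} : Set (GN B))) ⧸ R ≃* L) := by
  haveI : Fact (Nat.Prime 2) := ⟨Nat.prime_two⟩
  refine ⟨X.zS hB, X.QC hB, inferInstance, ⟨X.zS_order hB, ?_, ?_, ?_, ?_⟩, ⟨?_⟩⟩
  · have h := (Balance.centralizer_pCore_le_iff (p := 2)).mp (by
      rw [X.pCore_eq hB hL]; exact X.centralizer_QC_le hB)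
    rwa [X.pCore_eq hB hL] at h
  · exact FusionP3.GenExtra.isExtraspecial_congr (X.isoQC hB) X.extraspecial_Q0
  · rw [← Nat.card_congr (X.isoQC hB).toEquiv, X.card_Q0]
  · obtain ⟨q, hq, hqz, hconj, hne⟩ := X.exists_other
    obtain ⟨g, hg, hgz⟩ := X.exists_conj_z hq hne hconj
    obtain ⟨c, hc⟩ : ∃ c : GN B, c * X.zS hB * c⁻¹ = (X.pC hB q : GN B) :=
      ⟨QuotientGroup.mk ⟨g, (mem_CB hB).mpr hg⟩,
        congrArg QuotientGroup.mk (Subtype.ext hgz : (⟨g, (mem_CB hB).mpr hg⟩ *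
          X.toCB hB X.zh * ⟨g, (mem_CB hB).mpr hg⟩⁻¹ : Subgroup.centralizer (B : Set G)) =
            X.toCB hB q)⟩
    refine ⟨c, ⟨hc ▸ (X.pC hB q).2, ?_⟩, ?_⟩
    · rw [show (⟨c * X.zS hB * c⁻¹, hc ▸ (X.pC hB q).2⟩ :
        Subgroup.centralizer ({X.zS hB} : Set (GN B))) = X.pC hB q from Subtype.ext hc]
      exact (X.mem_QC hB).mpr ⟨q, hq, rfl⟩
    · rw [hc]
      exact fun h => hqz (X.pS_injOn hB hq X.zh_mem h)
  · exact ((QuotientGroup.quotientMulEquivOfEq (X.ker_thetaC hB)).symm.trans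
      ((QuotientGroup.quotientKerEquivRange (X.thetaC hB)).trans
        (MulEquiv.subgroupCongr (X.range_thetaC hB)))).trans eL

end Ctx

end Cfsg.Agent.Lib.MonsterLocal52
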