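import Cfsg.Agent.Lib.MonsterLocal52.Action

/-!
Coded subspaces of classes permuted by the centraliser, coded generators with their images, and the
checks on a coded search tree of the classes with a vector of squared length 64.

Owner: helper52.
-/

set_option autoImplicit false

namespace Cfsg.Agent.Lib.MonsterLocal52

open Cfsg Cfsg.Agent.Lib.Leech Cfsg.Agent.Lib.Golay Cfsg.Agent.Lib.Co3Model
open Cfsg.Agent.Lib.Computation (getW mulP)

/-- The images under a coded generator. -/
structure Img where
  /-- The images of the basis classes. -/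
  cols : List ℕ
  /-- The permutation of the objects. -/
  f : List ℕ
  /-- Its inverse. -/
  f' : List ℕ

/-- A node of the search tree. -/
structure Node where
  /-- The class. -/
  code : ℕ
  /-- The generator. -/
  gen : ℕ
  /-- The parent. -/
  par : ℕ
  /-- The permutation of the objects. -/
  perm : List ℕ

/-- Coded data for a local subgroup. -/
structure LocData extends LatData where
  /-- The number of objects. -/
  n : ℕ
  /-- The objects. -/
  objs : List (List ℕ)
  /-- The basic class. -/
  s0 : ℕ
  /-- The index of its axis. -/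
  k0 : ℕ
  /-- Generators outside the monomial group. -/
  moves : List (List Op × Img)
  /-- The fixed code words. -/
  flips : List (ℕ × Img)
  /-- The first factor of the centraliser in the code group. -/
  centA : List ((ℕ × ℕ) × Img)
  /-- The second factor. -/
  centB : List ((ℕ × ℕ) × Img)
  /-- The search tree. -/
  tree : List Node
  /-- Short vectors for the other classes. -/
  shorts : List (ℕ × List ℤ)

namespace LocData

variable (D : LocData)

/-- An object. -/
def obj (i : ℕ) : List ℕ := D.objs.getD i []

/-- All coded generators. -/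
def allG : List (List Op × Img) :=
  D.moves ++ (D.flips.map fun e => ([Op.sign e.1], e.2)) ++
    (D.centA.map fun e => ([Op.perm e.1.1 e.1.2], e.2)) ++
    (D.centB.map fun e => ([Op.perm e.1.1 e.1.2], e.2))

/-- A list as a map of the objects. -/
def fn (l : List ℕ) (i : Fin D.n) : Fin D.n :=
  if h : l.getD i.val 0 < D.n then ⟨l.getD i.val 0, h⟩ else i

/-- The lists are inverse permutations. -/
def invOK (e : Img) : Bool :=
  (List.finRange D.n).all fun i =>
    decide (D.fn e.f' (D.fn e.f i) = i) && decide (D.fn e.f (D.fn e.f' i) = i)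

/-- The permutation of coded images. -/
def permE (e : Img) : Equiv.Perm (Fin D.n) :=
  if h : D.invOK e = true then
    ⟨D.fn e.f, D.fn e.f', fun i => by
      simp only [invOK, List.all_eq_true, Bool.and_eq_true, decide_eq_true_eq] at h
      exact (h i (List.mem_finRange i)).1,
    fun i => by
      simp only [invOK, List.all_eq_true, Bool.and_eq_true, decide_eq_true_eq] at h
      exact (h i (List.mem_finRange i)).2⟩
  else 1

/-- The checks on the objects. -/
def objsOK : Bool :=
  (List.finRange D.n).all fun i =>
    decide ((D.obj i.val).toFinset.card = 16) && ((D.obj i.val).all fun c => Nat.blt c 256) &&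
      (List.finRange D.n).all fun j => decide (i = j) ||
        Nat.ble (((D.obj i.val).filter fun c => (D.obj j.val).any (Nat.beq c)).length) 4

/-- The checks on a generator. -/
def genOK (e : List Op × Img) : Bool :=
  D.centW e.1 && D.colsOK e.1 e.2.cols && D.invOK e.2 &&
    (List.finRange D.n).all fun i => (D.obj i.val).all fun c =>
      (D.obj (D.fn e.2.f i).val).any (Nat.beq (appC e.2.cols c))

/-- The checks on the generators. -/
def gensOK : Bool := D.allG.all D.genOK

/-- The default node. -/
def node (k : ℕ) : Node := D.tree.getD k ⟨0, 0, 0, []⟩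

/-- The checks on the tree. -/
def treeOK : Bool :=
  Nat.blt 0 D.tree.length && Nat.blt D.s0 256 &&
    (List.range D.tree.length).all fun k =>
      Nat.blt (D.node k).code 256 &&
      bif Nat.beq k 0 then
        Nat.beq (D.node k).code D.s0 &&
          (List.finRange D.n).all fun i => decide (D.fn (D.node k).perm i = i)
      else
        Nat.blt (D.node k).par k && Nat.blt (D.node k).gen D.allG.length &&
          Nat.beq (D.node k).code
            (appC (D.allG.getD (D.node k).gen ([], ⟨[], [], []⟩)).2.cols (D.node (D.node k).par).code) &&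
          (List.finRange D.n).all fun i => decide (D.fn (D.node k).perm i =
            D.fn (D.allG.getD (D.node k).gen ([], ⟨[], [], []⟩)).2.f
              (D.fn (D.node (D.node k).par).perm i))

/-- The parameters of a coded vector. -/
def parC (P : List ℤ) : Fin 8 → ℤ := fun j => P.getD j.val 0

/-- Every class is a node or has a short vector. -/
def coverOK : Bool :=
  (List.range 256).all fun c => (D.tree.any fun v => Nat.beq v.code c) ||
    D.shorts.any fun e => Nat.beq e.1 c &&
      (List.finRange 8).all (fun j => decide (parC e.2 j % 2 = 1) == c.testBit j.val) &&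
      decide (LatData.sqL (D.valL (parC e.2)) < 64)

/-- The basic class contains an axis; the permutation has the given order. -/
def rootOK : Bool :=
  Nat.blt D.k0 24 &&
    (List.range 24).all (fun i =>
      decide ((ent (axL D.k0) i - ent (D.valL (lift (vecC D.s0))) i) % 2 = 0)) &&
    inLeechL ((List.range 24).map fun i =>
      (ent (axL D.k0) i - ent (D.valL (lift (vecC D.s0))) i) / 2) &&
    ((List.range 24).all fun i => Nat.beq (D.itW D.p i) i) &&
    (List.range 24).any fun i => !Nat.beq (D.itW 1 i) i

/-- The fixed code words are listed. -/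
def fixOK : Bool :=
  (List.range 4096).all fun k =>
    !((List.range 24).all fun i => (enc k).testBit (getW 5 D.r i) == (enc k).testBit i) ||
      D.flips.any fun e => Nat.beq (enc k) e.1

/-- A monomial product of a node and listed generators acts trivially only in the obvious cases. -/
def kerCase (k : ℕ) (e : ℕ × Img) (a b : (ℕ × ℕ) × Img) : Bool :=
  !((List.finRange D.n).all fun i =>
      Nat.beq (D.fn (D.node k).perm (D.fn e.2.f (D.fn a.2.f (D.fn b.2.f i)))).val i.val) ||
    (Nat.beq k 0 && (Nat.beq e.1 0 || Nat.beq e.1 16777215) &&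
      (List.range D.p).any fun j => (List.range 24).all fun i =>
        Nat.beq (getW 5 (mulP 24 5 a.1.1 b.1.1) i) (D.itW j i))

/-- The kernel of the action on the objects. -/
def kerOK : Bool :=
  (List.range D.tree.length).all fun k =>
    !((List.finRange D.n).all fun i =>
        !(D.obj i.val).any (Nat.beq D.s0) || (D.obj i.val).any (Nat.beq (D.node k).code)) ||
      D.flips.all fun e => D.centA.all fun a => D.centB.all fun b => D.kerCase k e a b

/-- The facts about coded data. -/
structure Good : Prop where
  lat : D.ok = true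
  prime : D.p.Prime
  odd : D.p ≠ 2
  objs_ok : D.objsOK = true
  gens_ok : D.gensOK = true
  tree_ok : D.treeOK = true
  cover_ok : D.coverOK = true
  root_ok : D.rootOK = true
  fix_ok : D.fixOK = true
  ker_ok : D.kerOK = true
  cent : ∀ τ : M24, τ * LatData.σ lat = LatData.σ lat * τ →
    ∃ a ∈ D.centA, ∃ b ∈ D.centB, gperm a.1.1 * gperm b.1.1 = (τ : Equiv.Perm GolayPt)

namespace Good

variable {D} (H : D.Good)

/-- The centraliser. -/
noncomputable def CC : Subgroup Co0 := LatData.CC H.lat

/-- The action on classes. -/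
noncomputable def act (g : Co0) (x : LatData.V8) : LatData.V8 := LatData.actV H.lat g x

/-- An element induces a map of the objects. -/
def Moves (g : Co0) (f : Fin D.n → Fin D.n) : Prop :=
  ∀ i : Fin D.n, ∀ c ∈ D.obj i.val, ∃ c' ∈ D.obj (f i).val, H.act g (vecC c) = vecC c'

include H in
theorem obj_spec (i : Fin D.n) : (D.obj i.val).toFinset.card = 16 ∧ (∀ c ∈ D.obj i.val, c < 256) ∧
    ∀ j, i ≠ j → ((D.obj i.val).toFinset ∩ (D.obj j.val).toFinset).card ≤ 4 := by
  have h := H.objs_ok
  simp only [objsOK, List.all_eq_true, Bool.and_eq_true, decide_eq_true_eq, Nat.blt_eq,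
    Bool.or_eq_true, Nat.ble_eq] at h
  obtain ⟨⟨h1, h2⟩, h3⟩ := h i (List.mem_finRange i)
  refine ⟨h1, h2, fun j hne => ?_⟩
  have h4 := (h3 j (List.mem_finRange j)).resolve_left hne
  refine le_trans (le_trans (Finset.card_le_card ?_) (List.toFinset_card_le _)) h4
  intro c hc
  simp only [Finset.mem_inter, List.mem_toFinset] at hc
  simp only [List.mem_toFinset, List.mem_filter, List.any_eq_true, Nat.beq_eq]
  exact ⟨hc.1, c, hc.2, rfl⟩

theorem moves_one : H.Moves 1 id := fun i c hc => ⟨c, hc, LatData.actV_one H.lat _⟩

theorem moves_mul {g k : Co0} (hg : g ∈ H.CC) (hk : k ∈ H.CC) {f f' : Fin D.n → Fin D.n}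
    (h1 : H.Moves g f) (h2 : H.Moves k f') : H.Moves (g * k) (f ∘ f') := by
  intro i c hc
  obtain ⟨c1, hc1, e1⟩ := h2 i c hc
  obtain ⟨c2, hc2, e2⟩ := h1 (f' i) c1 hc1
  refine ⟨c2, hc2, ?_⟩
  show LatData.actV H.lat (g * k) _ = _
  rw [LatData.actV_mul H.lat hg hk, show LatData.actV H.lat k (vecC c) = vecC c1 from e1]
  exact e2

theorem moves_unique {g : Co0} (hg : g ∈ H.CC) {f f' : Fin D.n → Fin D.n}
    (h1 : H.Moves g f) (h2 : H.Moves g f') : f = f' := by
  classical
  funext i
  by_contra hne
  choose C hC hCe using h1 i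
  have hsub : ((D.obj i.val).toFinset.attach.image fun c => C c.1 (List.mem_toFinset.mp c.2)) ⊆
      (D.obj (f i).val).toFinset ∩ (D.obj (f' i).val).toFinset := by
    intro d hd
    simp only [Finset.mem_image, Finset.mem_attach, true_and] at hd
    obtain ⟨⟨c, hc⟩, rfl⟩ := hd
    have hc' := List.mem_toFinset.mp hc
    refine Finset.mem_inter.mpr ⟨List.mem_toFinset.mpr (hC c hc'), List.mem_toFinset.mpr ?_⟩
    obtain ⟨d, hd, he⟩ := h2 i c hc'
    have e : vecC (C c hc') = vecC d := (hCe c hc').symm.trans he
    rw [vecC_injOn ((H.obj_spec (f i)).2.1 _ (hC c hc')) ((H.obj_spec (f' i)).2.1 d hd) e]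
    exact hd
  have hinj : Function.Injective
      fun c : {x // x ∈ (D.obj i.val).toFinset} => C c.1 (List.mem_toFinset.mp c.2) := by
    rintro ⟨a, ha⟩ ⟨b, hb⟩ e
    have ha' := List.mem_toFinset.mp ha
    have hb' := List.mem_toFinset.mp hb
    refine Subtype.ext (vecC_injOn ((H.obj_spec i).2.1 a ha') ((H.obj_spec i).2.1 b hb') ?_)
    refine LatData.actV_injective H.lat hg ?_
    show H.act g (vecC a) = H.act g (vecC b)
    rw [hCe a ha', hCe b hb']
    exact congrArg vecC e
  have h := Finset.card_le_card hsub
  rw [Finset.card_image_of_injective _ hinj, Finset.card_attach, (H.obj_spec i).1] at h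
  have := (H.obj_spec (f i)).2.2 (f' i) hne
  omega

/-- The coded generators as automorphisms. -/
def GS (_H : D.Good) : Set Co0 := {g | ∃ e ∈ D.allG, g = wordElt e.1}

theorem gen_spec {e : List Op × Img} (he : e ∈ D.allG) :
    wordElt e.1 ∈ H.CC ∧ LatData.HasCols H.lat (wordElt e.1) e.2.cols ∧
      H.Moves (wordElt e.1) (D.permE e.2) ∧ (D.permE e.2 : Fin D.n → Fin D.n) = D.fn e.2.f ∧
      e.1.all Op.ok = true := by
  have h := H.gens_ok
  simp only [gensOK, List.all_eq_true] at h
  have h' := h e he
  simp only [genOK, Bool.and_eq_true, List.all_eq_true, List.any_eq_true, Nat.beq_eq] at h'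
  obtain ⟨⟨⟨hw, hc⟩, hi⟩, hm⟩ := h'
  obtain ⟨g1, g2⟩ := LatData.mem_of_centW H.lat hw
  have hcols := LatData.hasCols H.lat hw hc
  have hfn : (D.permE e.2 : Fin D.n → Fin D.n) = D.fn e.2.f := by
    rw [permE, dif_pos hi]
    rfl
  refine ⟨g1, hcols, fun i c hc' => ?_, hfn, g2⟩
  obtain ⟨c', hc'', e'⟩ := hm i (List.mem_finRange i) c hc'
  rw [hfn]
  exact ⟨c', hc'', by
    show LatData.actV H.lat _ _ = _
    rw [hcols c ((H.obj_spec i).2.1 c hc'), e']⟩

theorem mem_allG {e : List Op × Img} {k : ℕ} (hk : k < D.allG.length)
    (h : D.allG.getD k ([], ⟨[], [], []⟩) = e) : e ∈ D.allG := by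
  rw [← h, List.getD_eq_getElem?_getD, List.getElem?_eq_getElem hk, Option.getD_some]
  exact List.getElem_mem hk

theorem closure_le : Submonoid.closure H.GS ≤ H.CC.toSubmonoid := by
  rw [Submonoid.closure_le]
  rintro _ ⟨e, he, rfl⟩
  exact (H.gen_spec he).1

/-- Every node is reached by a product of generators. -/
theorem tree_spec : ∀ k < D.tree.length, ∃ t ∈ Submonoid.closure H.GS,
    H.act t (vecC D.s0) = vecC (D.node k).code ∧ H.Moves t (D.fn (D.node k).perm) ∧
      (k = 0 → t = 1) := by
  have h := H.tree_ok
  simp only [treeOK, Bool.and_eq_true, List.all_eq_true, List.mem_range, Nat.blt_eq] at h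
  obtain ⟨⟨-, hs⟩, ht⟩ := h
  intro k
  induction k using Nat.strong_induction_on with
  | _ k ih =>
    intro hk
    obtain ⟨-, hb⟩ := ht k hk
    by_cases h0 : k = 0
    · subst h0
      simp only [Nat.beq_refl, cond_true, Bool.and_eq_true, Nat.beq_eq, List.all_eq_true,
        decide_eq_true_eq] at hb
      refine ⟨1, one_mem _, by rw [hb.1]; exact LatData.actV_one H.lat _, ?_, fun _ => rfl⟩
      rw [show D.fn (D.node 0).perm = id from funext fun i => hb.2 i (List.mem_finRange i)]
      exact H.moves_one
    · rw [show Nat.beq k 0 = false from Bool.eq_false_iff.mpr fun e0 => h0 (Nat.eq_of_beq_eq_true e0)] at hb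
      simp only [cond_false, Bool.and_eq_true, Nat.blt_eq, Nat.beq_eq, List.all_eq_true,
        decide_eq_true_eq] at hb
      obtain ⟨⟨⟨hp, hg⟩, hc⟩, hperm⟩ := hb
      obtain ⟨t, ht1, ht2, ht3, -⟩ := ih _ hp (by omega)
      obtain ⟨e, he⟩ : ∃ e, D.allG.getD (D.node k).gen ([], ⟨[], [], []⟩) = e := ⟨_, rfl⟩
      have hmem := mem_allG hg he
      rw [he] at hc hperm
      obtain ⟨g1, g2, g3, g4, -⟩ := H.gen_spec hmem
      have htC : t ∈ H.CC := H.closure_le ht1
      refine ⟨wordElt e.1 * t, mul_mem (Submonoid.subset_closure ⟨e, hmem, rfl⟩) ht1, ?_, ?_,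
        fun e0 => absurd e0 h0⟩
      · show LatData.actV H.lat _ _ = _
        rw [LatData.actV_mul H.lat g1 htC,
          show LatData.actV H.lat t (vecC D.s0) = _ from ht2, hc]
        exact g2 _ (ht _ (by omega)).1
      · rw [show D.fn (D.node k).perm = ⇑(D.permE e.2) ∘ D.fn (D.node (D.node k).par).perm from
          funext fun i => by rw [Function.comp_apply, g4]; exact hperm i (List.mem_finRange i)]
        exact H.moves_mul g1 htC g3 ht3

end Good

end LocData

end Cfsg.Agent.Lib.MonsterLocal52
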